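import Mathlib
import Cfsg.Agent.Lib.Involutions.StronglyEmbedded

/-!
# Groups in which the centralizers of the involutions are one abelian group

`S` is a Sylow 2-subgroup with at least two involutions, not normal, `A = C(S)` is abelian and is the
centralizer of each involution of `S`, and the centralizer of every non-trivial element of `A`
normalizes `S`.  Then `N = N(S)` is strongly embedded and `G` is a Zassenhaus group on `G / N`.
-/

set_option autoImplicit false
set_option linter.unusedSectionVars false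

namespace Cfsg.Agent.Involutions.AbelianCentralizer

open MulAction Involutions.Basic

variable {G : Type*} [Group G]

/-- The common centralizer. -/
abbrev cen (S : Sylow 2 G) : Subgroup G := Subgroup.centralizer ((S : Subgroup G) : Set G)

/-- The normalizer of `S`. -/
abbrev nor (S : Sylow 2 G) : Subgroup G := Subgroup.normalizer ((S : Subgroup G) : Set G)

/-- The hypotheses. -/
structure Hyp (S : Sylow 2 G) : Prop where
  comm : ∀ a ∈ cen S, ∀ b ∈ cen S, a * b = b * a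
  le : (S : Subgroup G) ≤ cen S
  cent : ∀ s ∈ (S : Subgroup G), orderOf s = 2 →
    Subgroup.centralizer ({s} : Set G) = cen S
  two : ∃ s t : G, s ∈ (S : Subgroup G) ∧ t ∈ (S : Subgroup G) ∧ orderOf s = 2 ∧ orderOf t = 2 ∧ s ≠ t
  notNormal : ¬ (S : Subgroup G).Normal
  centA : ∀ a ∈ cen S, a ≠ 1 → Subgroup.centralizer ({a} : Set G) ≤ nor S

variable [Finite G] {S : Sylow 2 G}

theorem two_power_mem {n : G} (hn : n ∈ nor S) {k : ℕ} (hk : n ^ 2 ^ k = 1) : n ∈ (S : Subgroup G) := by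
  haveI : Fact (Nat.Prime 2) := ⟨Nat.prime_two⟩
  have hz : IsPGroup 2 (Subgroup.zpowers n) := by
    obtain ⟨j, -, hj⟩ := (Nat.dvd_prime_pow Nat.prime_two).1 (orderOf_dvd_of_pow_eq_one hk)
    exact IsPGroup.of_card (n := j) (by rw [Nat.card_zpowers, hj])
  have hsup : IsPGroup 2 ((Subgroup.zpowers n ⊔ (S : Subgroup G) : Subgroup G)) :=
    IsPGroup.to_sup_of_normal_right' hz S.isPGroup' (Subgroup.zpowers_le.2 hn)
  have := S.is_maximal' hsup le_sup_right
  exact this ▸ Subgroup.mem_sup_left (Subgroup.mem_zpowers n)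

theorem invol_mem {n : G} (hn : n ∈ nor S) (h2 : orderOf n = 2) : n ∈ (S : Subgroup G) :=
  two_power_mem hn (k := 1) (by rw [pow_one, sq, inv_sq_one h2])

theorem nor_card_odd_part : ∃ m : ℕ, Odd m ∧ ∀ n ∈ nor S, n ^ m ∈ (S : Subgroup G) := by
  haveI : Fact (Nat.Prime 2) := ⟨Nat.prime_two⟩
  obtain ⟨k, hk⟩ := IsPGroup.iff_card.1 S.isPGroup'
  refine ⟨(S : Subgroup G).relIndex (nor S), ?_, fun n hn => ?_⟩
  · rw [Nat.odd_iff, ← Nat.not_even_iff, even_iff_two_dvd]
    intro h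
    exact S.not_dvd_index (h.trans (Subgroup.relIndex_dvd_index_of_le Subgroup.le_normalizer))
  · refine two_power_mem (pow_mem hn _) (k := k) ?_
    rw [← pow_mul, ← hk, ← Subgroup.relIndex_bot_left (S : Subgroup G), mul_comm,
      Subgroup.relIndex_mul_relIndex _ _ _ bot_le Subgroup.le_normalizer, Subgroup.relIndex_bot_left]
    exact congrArg Subtype.val (pow_card_eq_one' (x := (⟨n, hn⟩ : nor S)))

theorem cen_le_nor : cen S ≤ nor S := by
  intro a ha
  rw [Subgroup.mem_normalizer_iff]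
  intro x
  constructor
  · intro hx
    rw [← Subgroup.mem_centralizer_iff.1 ha x hx, mul_inv_cancel_right]
    exact hx
  · intro hx
    have := Subgroup.mem_centralizer_iff.1 ha _ hx
    have e : x = a * x * a⁻¹ := by
      calc x = a⁻¹ * (a * x * a⁻¹ * a) := by group
        _ = a⁻¹ * (a * (a * x * a⁻¹)) := by rw [this]
        _ = a * x * a⁻¹ := by group
    exact e ▸ hx

theorem cen_conj {n a : G} (hn : n ∈ nor S) (ha : a ∈ cen S) : n * a * n⁻¹ ∈ cen S := by
  rw [Subgroup.mem_centralizer_iff]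
  intro x hx
  have hy : n⁻¹ * x * n ∈ ((S : Subgroup G) : Set G) := by
    have := (Subgroup.mem_normalizer_iff.1 (inv_mem hn) x).1 hx
    rwa [inv_inv] at this
  have := Subgroup.mem_centralizer_iff.1 ha _ hy
  calc x * (n * a * n⁻¹) = n * ((n⁻¹ * x * n) * a) * n⁻¹ := by group
    _ = n * (a * (n⁻¹ * x * n)) * n⁻¹ := by rw [this]
    _ = n * a * n⁻¹ * x := by group

namespace Hyp

variable (hS : Hyp S)
include hS

theorem exists_invol : ∃ s ∈ (S : Subgroup G), orderOf s = 2 := by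
  obtain ⟨s, -, hs, -, h2, -⟩ := hS.two
  exact ⟨s, hs, h2⟩

theorem mem_cen_of_commute {s g : G} (hs : s ∈ (S : Subgroup G)) (h2 : orderOf s = 2)
    (h : g * s = s * g) : g ∈ cen S :=
  hS.cent s hs h2 ▸ Subgroup.mem_centralizer_singleton_iff.2 h

theorem comm_invol {s a : G} (hs : s ∈ (S : Subgroup G)) (ha : a ∈ cen S) : a * s = s * a :=
  hS.comm a ha s (hS.le hs)

theorem strongly : Cfsg.IsStronglyEmbedded (nor S) := by
  obtain ⟨s, hs, h2⟩ := hS.exists_invol
  refine StronglyEmbedded.of_conj (fun e => hS.notNormal (Subgroup.normalizer_eq_top_iff.1 e)) ?_ ?_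
  · rw [even_iff_two_dvd, ← h2]
    rw [← Subgroup.orderOf_mk s (Subgroup.le_normalizer hs : s ∈ nor S)]
    exact orderOf_dvd_natCard _
  · intro t ht ht2 g hg
    have hb : g * t * g⁻¹ ∈ (S : Subgroup G) := invol_mem hg (by rw [orderOf_conj, ht2])
    have ha := invol_mem ht ht2
    -- `g` maps `S ≤ C(t)` into `C(g t g⁻¹) = C(S)`, whose 2-elements lie in `S`
    refine Subgroup.mem_normalizer_fintype fun x hx => ?_
    obtain ⟨k, hk⟩ := S.isPGroup' (⟨x, hx⟩ : (S : Subgroup G))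
    have hc : g * x * g⁻¹ ∈ cen S := by
      refine hS.mem_cen_of_commute hb (by rw [orderOf_conj, ht2]) ?_
      calc g * x * g⁻¹ * (g * t * g⁻¹) = g * (x * t) * g⁻¹ := by group
        _ = g * (t * x) * g⁻¹ := by rw [hS.comm_invol ha (hS.le hx)]
        _ = _ := by group
    refine two_power_mem (cen_le_nor hc) (k := k) ?_
    rw [conj_pow, show x ^ 2 ^ k = 1 from congrArg Subtype.val hk]
    group

omit hS in
theorem smul_one_eq_iff {t : G} :
    t • (((1 : G)) : G ⧸ nor S) = ((1 : G) : G ⧸ nor S) ↔ t ∈ nor S := by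
  show ((t * 1 : G) : G ⧸ nor S) = _ ↔ _
  rw [mul_one, QuotientGroup.eq, mul_one, inv_mem_iff]

omit hS in
theorem smul_mk_eq_iff {t g : G} :
    t • ((g : G) : G ⧸ nor S) = (g : G ⧸ nor S) ↔ g⁻¹ * t * g ∈ nor S := by
  show ((t * g : G) : G ⧸ nor S) = _ ↔ _
  rw [QuotientGroup.eq, ← inv_mem_iff]
  simp [mul_assoc]

omit hS in
theorem translate {g : G} {d : G} {B : G ⧸ nor S} :
    (g⁻¹ * d * g) • (g⁻¹ • B) = g⁻¹ • B ↔ d • B = B := by
  rw [mul_smul, mul_smul, smul_inv_smul, smul_left_cancel_iff]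

/-- Two points are interchanged by an involution. -/
theorem exists_swap {X Y : G ⧸ nor S} (h : X ≠ Y) :
    ∃ u : G, orderOf u = 2 ∧ u • X = Y ∧ u • Y = X := by
  obtain ⟨s, hs, h2⟩ := hS.exists_invol
  have hc := StronglyEmbedded.card_swap hS.strongly X Y h
  haveI : Nonempty {t : G // orderOf t = 2 ∧ t ∈ nor S} := ⟨⟨s, h2, Subgroup.le_normalizer hs⟩⟩
  have hpos : 0 < Nat.card {i : G // orderOf i = 2 ∧ i • X = Y} := by
    rw [hc]; exact Nat.card_pos
  obtain ⟨⟨u, hu, hu'⟩⟩ := (Nat.card_pos_iff.1 hpos).1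
  exact ⟨u, hu, hu', by rw [← hu', ← mul_smul, inv_sq_one hu, one_smul]⟩

/-- What commutes with an involution lies in the corresponding conjugate of `C(S)`. -/
theorem cent_invol {v w g : G} (hv : orderOf v = 2) (hg : g⁻¹ * v * g ∈ nor S)
    (hw : w * v = v * w) : g⁻¹ * w * g ∈ cen S := by
  have h2 : orderOf (g⁻¹ * v * g) = 2 := by
    rw [← hv]
    simpa using orderOf_conj g⁻¹ v
  refine hS.mem_cen_of_commute (invol_mem hg h2) h2 ?_
  calc g⁻¹ * w * g * (g⁻¹ * v * g) = g⁻¹ * (w * v) * g := by group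
    _ = g⁻¹ * (v * w) * g := by rw [hw]
    _ = _ := by group

theorem inter_conj {u y : G} (hu : u ∉ nor S) (hy : y ∈ cen S) (hy' : u⁻¹ * y * u ∈ cen S) :
    y = 1 := by
  by_contra hy1
  obtain ⟨s, hs, h2⟩ := hS.exists_invol
  have hc : u * s * u⁻¹ * y = y * (u * s * u⁻¹) := by
    calc u * s * u⁻¹ * y = u * (s * (u⁻¹ * y * u)) * u⁻¹ := by group
      _ = u * ((u⁻¹ * y * u) * s) * u⁻¹ := by rw [← hS.comm_invol hs hy']
      _ = _ := by group
  exact hu (StronglyEmbedded.mem_of_conj hS.strongly (Subgroup.le_normalizer hs) h2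
    (hS.centA y hy hy1 (Subgroup.mem_centralizer_singleton_iff.2 hc)))

omit hS in
theorem odd_orderOf_two {u d : G} (hN : Cfsg.IsStronglyEmbedded (nor S)) (hu : u ∉ nor S)
    (hd : d ∈ nor S) (hd' : u⁻¹ * d * u ∈ nor S) : Odd (orderOf d) := by
  have hm : d ∈ nor S ⊓ (nor S).map (MulAut.conj u).toMonoidHom :=
    ⟨hd, u⁻¹ * d * u, hd', by simp [mul_assoc]⟩
  refine Odd.of_dvd_nat (hN.2.2 u hu) ?_
  rw [← Subgroup.orderOf_mk d hm]
  exact orderOf_dvd_natCard _

/-- A non-trivial element of `C(S)` fixes one point only. -/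
theorem fix_unique {a : G} (ha : a ∈ cen S) (ha1 : a ≠ 1) {B : G ⧸ nor S} (hB : a • B = B) :
    B = ((1 : G) : G ⧸ nor S) := by
  by_contra hne
  have hao : a • ((1 : G) : G ⧸ nor S) = ((1 : G) : G ⧸ nor S) := smul_one_eq_iff.2 (cen_le_nor ha)
  obtain ⟨u, hu, huo, huB⟩ := hS.exists_swap (Ne.symm hne)
  have huN : u ∉ nor S := fun h => hne (huo ▸ smul_one_eq_iff.2 h)
  have hui := inv_eq hu
  set k' := u * a * u with hk'
  have hk'N : k' ∈ nor S := smul_one_eq_iff.1 (by rw [hk', mul_smul, mul_smul, huo, hB, huB])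
  have hodd : Odd (orderOf a) := odd_orderOf_two hS.strongly huN (cen_le_nor ha) (by rwa [hui])
  have hodd' : Odd (orderOf k') := by
    rw [hk', show u * a * u = u * a * u⁻¹ by rw [hui], orderOf_conj]
    exact hodd
  have huu := inv_sq_one hu
  have huku : u * k' * u = a := by
    rw [hk']
    calc u * (u * a * u) * u = (u * u) * a * (u * u) := by group
      _ = a := by rw [huu, one_mul, mul_one]
  -- `a` and `k'` commute
  have hx : a * (k' * a⁻¹ * k'⁻¹) = 1 := by
    refine hS.inter_conj huN (mul_mem ha (cen_conj hk'N (inv_mem ha))) ?_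
    have e : u⁻¹ * (a * (k' * a⁻¹ * k'⁻¹)) * u = k' * a * k'⁻¹ * a⁻¹ := by
      rw [hui]
      calc u * (a * (k' * a⁻¹ * k'⁻¹)) * u =
            (u * a * u) * (u * k' * u) * (u * a * u)⁻¹ * (u * k' * u)⁻¹ := by
            simp only [mul_inv_rev, hui, ← mul_assoc]
            simp [mul_assoc, huu]
        _ = k' * a * k'⁻¹ * a⁻¹ := by rw [huku, ← hk']
    rw [e]
    exact mul_mem (cen_conj hk'N ha) (inv_mem ha)
  have hcomm : a * k' = k' * a := by
    calc a * k' = (a * (k' * a⁻¹ * k'⁻¹)) * (k' * a) := by group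
      _ = k' * a := by rw [hx, one_mul]
  -- their product is centralized by `u`
  obtain ⟨c, hc⟩ : ∃ c, c = a * k' := ⟨_, rfl⟩
  have hcu : c * u = u * c := by
    calc c * u = a * (u * a * u) * u := by rw [hc, hk']
      _ = a * u * a * (u * u) := by group
      _ = a * u * a := by rw [huu, mul_one]
      _ = (a * (u * a * u)) * u := by simp [mul_assoc, huu]
      _ = (u * a * u) * a * u := by rw [← hk', hcomm]
      _ = u * (a * k') := by rw [hk']; group
      _ = u * c := by rw [hc]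
  obtain ⟨Q, hQ⟩ := (StronglyEmbedded.existsUnique_fixed hS.strongly hu).exists
  obtain ⟨g, rfl⟩ := QuotientGroup.mk_surjective Q
  have hgc : g⁻¹ * c * g ∈ cen S := hS.cent_invol hu (smul_mk_eq_iff.1 hQ) hcu
  have hcne : g⁻¹ * c * g ≠ 1 := by
    intro e
    have hc1 : c = 1 := by
      calc c = g * (g⁻¹ * c * g) * g⁻¹ := by group
        _ = 1 := by rw [e]; group
    have : k' = a⁻¹ := (inv_eq_of_mul_eq_one_right (hc.symm.trans hc1)).symm
    refine ha1 (hS.inter_conj huN ha ?_)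
    rw [hui, ← hk', this]
    exact inv_mem ha
  -- so `a` normalizes the conjugate of `S` containing `u`
  set k0 := g⁻¹ * a * g with hk0
  have hk0N : k0 ∈ nor S := hS.centA _ hgc hcne (Subgroup.mem_centralizer_singleton_iff.2 (by
    calc k0 * (g⁻¹ * c * g) = g⁻¹ * (a * c) * g := by rw [hk0]; group
      _ = g⁻¹ * (c * a) * g := by rw [hc, mul_assoc a k' a, ← hcomm]
      _ = _ := by rw [hk0]; group))
  set s := g⁻¹ * u * g with hs
  have hs2 : orderOf s = 2 := by rw [← hu, hs]; simpa using orderOf_conj g⁻¹ u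
  have hsS : s ∈ (S : Subgroup G) := invol_mem (smul_mk_eq_iff.1 hQ) hs2
  have hmem : g⁻¹ * (k' * a⁻¹) * g ∈ (S : Subgroup G) := by
    have e : g⁻¹ * (k' * a⁻¹) * g = s * (k0 * s * k0⁻¹) := by rw [hk', hs, hk0]; group
    rw [e]
    exact mul_mem hsS ((Subgroup.mem_normalizer_iff.1 hk0N s).1 hsS)
  obtain ⟨j, hj⟩ := S.isPGroup' (⟨_, hmem⟩ : (S : Subgroup G))
  have hd1 : orderOf (k' * a⁻¹) ∣ 2 ^ j := by
    rw [← orderOf_conj g⁻¹ (k' * a⁻¹), inv_inv]
    exact orderOf_dvd_of_pow_eq_one (congrArg Subtype.val hj)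
  have hcom : Commute k' a⁻¹ := (show Commute k' a from hcomm.symm).inv_right
  have hd2 : orderOf (k' * a⁻¹) ∣ orderOf k' * orderOf a := by
    have := hcom.orderOf_mul_dvd_mul_orderOf
    rwa [orderOf_inv] at this
  have hd3 : orderOf (k' * a⁻¹) = 1 := Nat.eq_one_of_dvd_coprimes
    ((Nat.coprime_two_left.2 (hodd'.mul hodd)).pow_left j) hd1 hd2
  have he : k' = a := mul_inv_eq_one.1 (orderOf_eq_one_iff.1 hd3)
  exact ha1 (hS.inter_conj huN ha (by rw [hui, ← hk', he]; exact ha))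

theorem mem_cen_two {d : G} (hd : d ∈ cen S) {B : G ⧸ nor S} (hB : B ≠ ((1 : G) : G ⧸ nor S))
    (hdB : d • B = B) : d = 1 := by
  by_contra h
  exact hB (hS.fix_unique hd h hdB)

/-- An involution interchanging two points inverts their common stabilizer. -/
theorem inverts {X Y : G ⧸ nor S} (hXY : X ≠ Y) {v d : G} (hv : orderOf v = 2) (hvX : v • X = Y)
    (hdX : d • X = X) (hdY : d • Y = Y) : v * d * v⁻¹ = d⁻¹ := by
  have hvi := inv_eq hv
  have hvY : v • Y = X := by rw [← hvX, ← mul_smul, inv_sq_one hv, one_smul]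
  let T : Subgroup G := stabilizer G X ⊓ stabilizer G Y
  have hT : ∀ x ∈ T, v * x * v⁻¹ ∈ T := by
    intro x hx
    refine ⟨?_, ?_⟩
    · show (v * x * v⁻¹) • X = X
      rw [hvi, mul_smul, mul_smul, hvX, show x • Y = Y from hx.2, hvY]
    · show (v * x * v⁻¹) • Y = Y
      rw [hvi, mul_smul, mul_smul, hvY, show x • X = X from hx.1, hvX]
  let φ : T →* T := ((MulAut.conj v).toMonoidHom.comp T.subtype).codRestrict T fun x => hT x.1 x.2
  have hinv : Function.Involutive φ := fun x => Subtype.ext (by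
    show v * (v * x.1 * v⁻¹) * v⁻¹ = x.1
    rw [hvi]
    calc v * (v * x.1 * v) * v = (v * v) * x.1 * (v * v) := by group
      _ = x.1 := by rw [inv_sq_one hv, one_mul, mul_one])
  have hfpf : MonoidHom.FixedPointFree φ := by
    intro x hx
    have hxv : x.1 * v = v * x.1 := by
      have e : v * x.1 * v⁻¹ = x.1 := congrArg Subtype.val hx
      conv_lhs => rw [← e]
      group
    obtain ⟨Q, hQ⟩ := (StronglyEmbedded.existsUnique_fixed hS.strongly hv).exists
    obtain ⟨g, rfl⟩ := QuotientGroup.mk_surjective Q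
    have hm : g⁻¹ * x.1 * g ∈ cen S := hS.cent_invol hv (smul_mk_eq_iff.1 hQ) hxv
    have hX' : g⁻¹ • X ≠ ((1 : G) : G ⧸ nor S) := by
      intro e
      have eX : X = (g : G ⧸ nor S) := by
        rw [inv_smul_eq_iff] at e
        rw [e]
        show ((g * 1 : G) : G ⧸ nor S) = _
        rw [mul_one]
      rw [eX, hQ] at hvX
      exact hXY (eX.trans hvX)
    have := hS.mem_cen_two hm hX' (translate.2 x.2.1)
    refine Subtype.ext ?_
    calc x.1 = g * (g⁻¹ * x.1 * g) * g⁻¹ := by group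
      _ = 1 := by rw [this]; group
  have h := hfpf.coe_eq_inv_of_involutive hinv
  exact congrArg Subtype.val (congrFun h (⟨d, hdX, hdY⟩ : T))

/-- A non-trivial element of the stabilizer of two points fixes no further point. -/
theorem fix_two {d : G} (hd1 : d ≠ 1) {Y Z : G ⧸ nor S} (ho : d • ((1 : G) : G ⧸ nor S) = ((1 : G) : G ⧸ nor S))
    (hY : d • Y = Y) (hY1 : Y ≠ ((1 : G) : G ⧸ nor S)) (hZ : d • Z = Z) (hZ1 : Z ≠ ((1 : G) : G ⧸ nor S)) :
    Z = Y := by
  by_contra hne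
  set o := ((1 : G) : G ⧸ nor S) with hodef
  obtain ⟨v1, h1, h1o, h1Y⟩ := hS.exists_swap (Ne.symm hY1)
  obtain ⟨v2, h2, h2Y, h2Z⟩ := hS.exists_swap (Ne.symm hne)
  obtain ⟨v3, h3, h3Z, h3o⟩ := hS.exists_swap hZ1
  have i1 := hS.inverts (Ne.symm hY1) h1 h1o ho hY
  have i2 := hS.inverts (Ne.symm hne) h2 h2Y hY hZ
  have i3 := hS.inverts hZ1 h3 h3Z hZ ho
  set w := v3 * v2 * v1 with hw
  have hwN : w ∈ nor S := smul_one_eq_iff.1 (by rw [hw, mul_smul, mul_smul, h1o, h2Y, h3Z])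
  have hwd : w * d * w⁻¹ = d⁻¹ := by
    rw [hw, show v3 * v2 * v1 * d * (v3 * v2 * v1)⁻¹ = v3 * (v2 * (v1 * d * v1⁻¹) * v2⁻¹) * v3⁻¹ by group,
      i1, show v2 * d⁻¹ * v2⁻¹ = (v2 * d * v2⁻¹)⁻¹ by group, i2, inv_inv, i3]
  obtain ⟨m, hm, hmS⟩ := nor_card_odd_part (S := S)
  have hpow : ∀ n : ℕ, w ^ n * d * (w ^ n)⁻¹ = if Even n then d else d⁻¹ := by
    intro n
    induction n with
    | zero => simp
    | succ n ih =>
      rw [pow_succ', mul_inv_rev, show w * w ^ n * d * ((w ^ n)⁻¹ * w⁻¹) =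
        w * (w ^ n * d * (w ^ n)⁻¹) * w⁻¹ by group, ih]
      by_cases he : Even n
      · rw [if_pos he, if_neg (by simpa [Nat.even_add_one] using he), hwd]
      · rw [if_neg he, if_pos (by simpa [Nat.even_add_one] using he),
          show w * d⁻¹ * w⁻¹ = (w * d * w⁻¹)⁻¹ by group, hwd, inv_inv]
  have h := hpow m
  rw [if_neg (Nat.not_even_iff_odd.2 hm)] at h
  have hs := hmS w hwN
  have hdN : d ∈ nor S := smul_one_eq_iff.1 ho
  have hd2 : d⁻¹ * d⁻¹ ∈ (S : Subgroup G) := by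
    have e : d⁻¹ * d⁻¹ = w ^ m * (d * (w ^ m)⁻¹ * d⁻¹) := by
      rw [← mul_assoc, ← mul_assoc, h]
    rw [e]
    exact mul_mem hs ((Subgroup.mem_normalizer_iff.1 hdN _).1 (inv_mem hs))
  have h1N : v1 ∉ nor S := fun h' => hY1 (h1o ▸ smul_one_eq_iff.2 h')
  have hdodd : Odd (orderOf d) := odd_orderOf_two hS.strongly h1N hdN
    (smul_one_eq_iff.1 (by rw [inv_eq h1, mul_smul, mul_smul, h1o, hY, h1Y]))
  obtain ⟨j, hj⟩ := S.isPGroup' (⟨_, hd2⟩ : (S : Subgroup G))
  have h5 : orderOf d ∣ 2 * 2 ^ j := by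
    rw [← orderOf_inv, mul_comm]
    refine orderOf_dvd_of_pow_eq_one ?_
    rw [mul_comm, pow_mul, sq]
    exact congrArg Subtype.val hj
  rw [← pow_succ'] at h5
  exact hd1 (orderOf_eq_one_iff.1 (Nat.eq_one_of_dvd_coprimes
    ((Nat.coprime_two_left.2 hdodd).pow_left (j + 1)) h5 dvd_rfl))

/-- An element of `N` is, up to `C(S)`, one of the stabilizer of a second point. -/
theorem exists_factor {B : G ⧸ nor S} (hB : B ≠ ((1 : G) : G ⧸ nor S)) {n : G} (hn : n ∈ nor S) :
    ∃ d ∈ nor S, d • B = B ∧ d⁻¹ * n ∈ cen S := by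
  obtain ⟨s, hs, h2⟩ := hS.exists_invol
  obtain ⟨u, hu, huo, -⟩ := hS.exists_swap (Ne.symm hB)
  have huN : u ∉ nor S := fun h => hB (huo ▸ smul_one_eq_iff.2 h)
  have hns : n * s * n⁻¹ ∈ (S : Subgroup G) := (Subgroup.mem_normalizer_iff.1 hn s).1 hs
  obtain ⟨d, ⟨hdN, e, he, hde⟩, hd⟩ := StronglyEmbedded.exists_conj_in_inter hS.strongly hu huN h2
    (Subgroup.le_normalizer hs) (by rw [orderOf_conj, h2] : orderOf (n * s * n⁻¹) = 2)
    (Subgroup.le_normalizer hns)
  refine ⟨d, hdN, ?_, hS.mem_cen_of_commute hs h2 ?_⟩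
  · change u * e * u⁻¹ = d at hde
    rw [← hde, ← huo, mul_smul, mul_smul, inv_smul_smul, smul_one_eq_iff.2 he]
  · calc d⁻¹ * n * s = d⁻¹ * (n * s * n⁻¹) * n := by group
      _ = d⁻¹ * (d * s * d⁻¹) * n := by rw [hd]
      _ = _ := by group

end Hyp

end Cfsg.Agent.Involutions.AbelianCentralizer
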