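import Mathlib
import Cfsg.Agent.Lib.Involutions.AbelianCentralizer.Setup
import Cfsg.Agent.Lib.CharTheory.Zassenhaus.FeitMain
import Cfsg.Agent.Lib.Perm.Zassenhaus.Main
import Cfsg.Agent.S0738
import Cfsg.Agent.S0338

/-!
# The Zassenhaus group of an abelian common centralizer, and its identification with `SL₂`
-/

set_option autoImplicit false
set_option linter.unusedSectionVars false
set_option linter.style.haveILetI false

namespace Cfsg.Agent.Involutions.AbelianCentralizer

open MulAction Involutions.Basic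

universe u

variable {G : Type u} [Group G] [Finite G] {S : Sylow 2 G}

/-- The base point. -/
abbrev base (S : Sylow 2 G) : G ⧸ nor S := ((1 : G) : G ⧸ nor S)

theorem stab_base : stabilizer G (base S) = nor S := by
  ext x
  exact Hyp.smul_one_eq_iff

theorem mem_nor {x : G} (h : x ∈ stabilizer G (base S)) : x ∈ nor S :=
  Hyp.smul_one_eq_iff.1 h

theorem base_translate (g : G) : g • base S = (g : G ⧸ nor S) := by
  show ((g * 1 : G) : G ⧸ nor S) = _
  rw [mul_one]

namespace Hyp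

variable (hS : Hyp S)
include hS

theorem even_card_cen : Even (Nat.card (cen S)) := by
  obtain ⟨s, hs, h2⟩ := hS.exists_invol
  rw [even_iff_two_dvd, ← h2, ← Subgroup.orderOf_mk s (hS.le hs)]
  exact orderOf_dvd_natCard _

/-- The two point stabilizer is a complement of `C(S)` in `N`. -/
theorem card_two {B : G ⧸ nor S} (hB : B ≠ base S) :
    Nat.card ↥(stabilizer G (base S) ⊓ stabilizer G B) * Nat.card (cen S) = Nat.card (nor S) := by
  rw [← Nat.card_prod]
  refine Nat.card_congr (Equiv.ofBijective (fun p => (⟨p.1.1 * p.2.1, ?_⟩ : nor S)) ⟨?_, ?_⟩)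
  · exact mul_mem (mem_nor p.1.2.1) (cen_le_nor p.2.2)
  · rintro ⟨⟨d, hd⟩, ⟨a, ha⟩⟩ ⟨⟨d', hd'⟩, ⟨a', ha'⟩⟩ e
    have e' : d * a = d' * a' := congrArg Subtype.val e
    have hm : d'⁻¹ * d ∈ cen S := by
      rw [show d'⁻¹ * d = d'⁻¹ * (d * a) * a⁻¹ by group, e',
        show d'⁻¹ * (d' * a') * a⁻¹ = a' * a⁻¹ by group]
      exact mul_mem ha' (inv_mem ha)
    have h1 := hS.mem_cen_two hm hB (mul_mem (inv_mem hd') hd).2
    obtain rfl : d' = d := inv_mul_eq_one.1 h1
    obtain rfl : a = a' := mul_left_cancel e'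
    rfl
  · rintro ⟨n, hn⟩
    obtain ⟨d, hdN, hdB, hda⟩ := hS.exists_factor hB hn
    exact ⟨(⟨d, ⟨Hyp.smul_one_eq_iff.2 hdN, hdB⟩⟩, ⟨_, hda⟩), Subtype.ext (mul_inv_cancel_left d n)⟩

theorem two_nontrivial {B : G ⧸ nor S} (hB : B ≠ base S) :
    ∃ d ∈ stabilizer G (base S) ⊓ stabilizer G B, d ≠ 1 := by
  obtain ⟨s, t, hs, ht, h2, h2', hne⟩ := hS.two
  obtain ⟨n, hn⟩ := isConj_iff.1 (StronglyEmbedded.isConj_involutions hS.strongly h2 h2')
  have hnN : n ∈ nor S := StronglyEmbedded.mem_of_conj hS.strongly (Subgroup.le_normalizer hs) h2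
    (by rw [hn]; exact Subgroup.le_normalizer ht)
  obtain ⟨d, hdN, hdB, hda⟩ := hS.exists_factor hB hnN
  refine ⟨d, ⟨Hyp.smul_one_eq_iff.2 hdN, hdB⟩, fun e => hne ?_⟩
  rw [e, inv_one, one_mul] at hda
  rw [← hn, hS.comm_invol hs hda, mul_inv_cancel_right]

theorem exists_other : ∃ B : G ⧸ nor S, B ≠ base S := by
  obtain ⟨u, hu, -⟩ := StronglyEmbedded.exists_involution_notMem hS.strongly
  exact ⟨u • base S, fun e => hu (Hyp.smul_one_eq_iff.1 e)⟩

/-- `C(S)` is regular on the points other than the base point. -/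
theorem bijective {B₀ : G ⧸ nor S} (hB₀ : B₀ ≠ base S) :
    Function.Bijective (fun a : cen S => (⟨(a : G) • B₀, fun e => hB₀ (by
      have := congrArg (fun z => (a : G)⁻¹ • z) e
      simp only [inv_smul_smul] at this
      rw [this]
      exact Hyp.smul_one_eq_iff.2 (inv_mem (cen_le_nor a.2)))⟩ : {B : G ⧸ nor S // B ≠ base S})) := by
  classical
  haveI := Fintype.ofFinite (G ⧸ nor S)
  have hinj : Function.Injective (fun a : cen S => (a : G) • B₀) := by
    intro a b e
    have h1 : ((b : G)⁻¹ * a) • B₀ = B₀ := by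
      rw [mul_smul]
      simp only at e
      rw [e, inv_smul_smul]
    exact Subtype.ext (inv_mul_eq_one.1 (hS.mem_cen_two (mul_mem (inv_mem b.2) a.2) hB₀ h1)).symm
  refine (Nat.bijective_iff_injective_and_card _).2
    ⟨fun a b e => hinj (congrArg Subtype.val e), le_antisymm ?_ ?_⟩
  · exact Nat.card_le_card_of_injective
      (fun a : cen S => (⟨(a : G) • B₀, fun e => hB₀ (by
        have := congrArg (fun z => (a : G)⁻¹ • z) e
        simp only [inv_smul_smul] at this
        rw [this]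
        exact Hyp.smul_one_eq_iff.2 (inv_mem (cen_le_nor a.2)))⟩ : {B : G ⧸ nor S // B ≠ base S}))
      (fun a b e => hinj (congrArg Subtype.val e))
  set e := Nat.card ↥(stabilizer G (base S) ⊓ stabilizer G B₀) with he
  have hcard : ∀ B : {B : G ⧸ nor S // B ≠ base S},
      Nat.card {d : ↥(stabilizer G (base S) ⊓ stabilizer G B.1) // d ≠ 1} = e - 1 := by
    intro B
    have h1 : Nat.card ↥(stabilizer G (base S) ⊓ stabilizer G B.1) = e :=
      Nat.eq_of_mul_eq_mul_right Nat.card_pos ((hS.card_two B.2).trans (hS.card_two hB₀).symm)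
    haveI := Fintype.ofFinite ↥(stabilizer G (base S) ⊓ stabilizer G B.1)
    rw [Nat.card_eq_fintype_card, Fintype.card_subtype_compl, Fintype.card_subtype_eq,
      ← Nat.card_eq_fintype_card, h1]
  have he2 : 2 ≤ e := by
    obtain ⟨d, hd, hd1⟩ := hS.two_nontrivial hB₀
    exact Finite.one_lt_card_iff_nontrivial.2 ⟨⟨⟨d, hd⟩, 1, fun h => hd1 (congrArg Subtype.val h)⟩⟩
  have hsig : Nat.card (Σ B : {B : G ⧸ nor S // B ≠ base S},
      {d : ↥(stabilizer G (base S) ⊓ stabilizer G B.1) // d ≠ 1}) ≤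
      Nat.card {n : nor S // (n : G) ∉ cen S} := by
    refine Nat.card_le_card_of_injective (fun p => ⟨⟨p.2.1.1, mem_nor p.2.1.2.1⟩,
      fun h => p.2.2 (Subtype.ext (hS.mem_cen_two h p.1.2 p.2.1.2.2))⟩) ?_
    rintro ⟨⟨B, hB⟩, ⟨⟨d, hd⟩, hd1⟩⟩ ⟨⟨B', hB'⟩, ⟨⟨d', hd'⟩, hd1'⟩⟩ h
    obtain rfl : d = d' := congrArg (fun x => ((x.1 : nor S) : G)) h
    obtain rfl : B' = B := hS.fix_two (fun h0 => hd1 (Subtype.ext h0)) hd.1 hd.2 hB hd'.2 hB'
    rfl
  haveI := Fintype.ofFinite (nor S)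
  rw [Nat.card_sigma, Finset.sum_congr rfl fun B _ => hcard B, Finset.sum_const, smul_eq_mul,
    Finset.card_univ, ← Nat.card_eq_fintype_card] at hsig
  have hcomp : Nat.card {n : nor S // (n : G) ∉ cen S} = (e - 1) * Nat.card (cen S) := by
    rw [Nat.card_eq_fintype_card, Fintype.card_subtype_compl, ← Nat.card_eq_fintype_card,
      ← hS.card_two hB₀, ← Nat.card_eq_fintype_card]
    have : Nat.card {n : nor S // (n : G) ∈ cen S} = Nat.card (cen S) :=
      Nat.card_congr ⟨fun n => ⟨n.1.1, n.2⟩, fun a => ⟨⟨a.1, cen_le_nor a.2⟩, a.2⟩,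
        fun n => rfl, fun a => rfl⟩
    rw [this, ← he, Nat.sub_mul, one_mul]
  rw [hcomp, mul_comm] at hsig
  exact Nat.le_of_mul_le_mul_left hsig (by omega)

theorem regular {Y Z : G ⧸ nor S} (hY : Y ≠ base S) (hZ : Z ≠ base S) :
    ∃! a : cen S, (a : G) • Y = Z := by
  obtain ⟨a, ha⟩ := (hS.bijective hY).2 ⟨Z, hZ⟩
  refine ⟨a, congrArg Subtype.val ha, fun b hb => (hS.bijective hY).1 (Subtype.ext ?_)⟩
  exact hb.trans (congrArg Subtype.val ha).symm

theorem card_points : Nat.card (G ⧸ nor S) = Nat.card (cen S) + 1 := by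
  classical
  haveI := Fintype.ofFinite (G ⧸ nor S)
  obtain ⟨B, hB⟩ := hS.exists_other
  rw [Nat.card_congr (Equiv.ofBijective _ (hS.bijective hB)), Nat.card_eq_fintype_card,
    Nat.card_eq_fintype_card, Fintype.card_subtype_compl, Fintype.card_subtype_eq]
  have : 0 < Fintype.card (G ⧸ nor S) := Fintype.card_pos
  omega

theorem three_points {g : G} {a b c : G ⧸ nor S} (hab : a ≠ b) (hbc : b ≠ c) (hac : a ≠ c)
    (ha : g • a = a) (hb : g • b = b) (hc : g • c = c) : g = 1 := by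
  obtain ⟨h, rfl⟩ := QuotientGroup.mk_surjective a
  by_contra hg
  have e : h⁻¹ • (h : G ⧸ nor S) = base S := by rw [← base_translate, inv_smul_smul]
  have hd1 : h⁻¹ * g * h ≠ 1 := fun e' => hg (by
    calc g = h * (h⁻¹ * g * h) * h⁻¹ := by group
      _ = 1 := by rw [e']; group)
  have hne : ∀ x : G ⧸ nor S, (h : G ⧸ nor S) ≠ x → h⁻¹ • x ≠ base S := fun x hx e' =>
    hx (by rw [← e] at e'; exact (smul_left_cancel _ e').symm)
  have hh : (h⁻¹ * g * h) • base S = base S := by
    rw [← e]; exact Hyp.translate.2 ha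
  exact hbc (smul_left_cancel _ (hS.fix_two hd1 hh (Hyp.translate.2 hb)
    (hne b hab) (Hyp.translate.2 hc) (hne c hac))).symm

theorem zass (hO : ∀ M : Subgroup G, M.Normal → Odd (Nat.card M) → M = ⊥) :
    Cfsg.IsZassenhausGroup G (G ⧸ nor S) := by
  classical
  have hn := hS.card_points
  have hA2 : 2 ≤ Nat.card (cen S) := by
    obtain ⟨k, hk⟩ := hS.even_card_cen
    have : 0 < Nat.card (cen S) := Nat.card_pos
    omega
  have h3 : ∀ g : G, ∀ a b c : G ⧸ nor S, a ≠ b → b ≠ c → a ≠ c → g • a = a → g • b = b →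
      g • c = c → g = 1 := fun g a b c => hS.three_points
  refine ⟨⟨fun {x y} h => ?_⟩, ?_, h3, ?_, ?_⟩
  · obtain ⟨B, hB⟩ := hS.exists_other
    obtain ⟨C, hC, hCB⟩ : ∃ C : G ⧸ nor S, C ≠ base S ∧ C ≠ B := by
      by_contra hh
      push Not at hh
      have : Nat.card (G ⧸ nor S) ≤ 2 := by
        haveI := Fintype.ofFinite (G ⧸ nor S)
        rw [Nat.card_eq_fintype_card, ← Finset.card_univ]
        calc (Finset.univ : Finset (G ⧸ nor S)).card ≤ ({base S, B} : Finset (G ⧸ nor S)).card := by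
              refine Finset.card_le_card fun C _ => ?_
              simp only [Finset.mem_insert, Finset.mem_singleton]
              by_cases hC : C = base S
              · exact Or.inl hC
              · exact Or.inr (hh C hC)
          _ ≤ 2 := Finset.card_le_two
      omega
    have := h3 (x⁻¹ * y) (base S) B C (Ne.symm hB) (Ne.symm hCB) (Ne.symm hC)
      (by rw [mul_smul, ← h, inv_smul_smul]) (by rw [mul_smul, ← h, inv_smul_smul])
      (by rw [mul_smul, ← h, inv_smul_smul])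
    exact (inv_mul_eq_one.1 this)
  · rw [MulAction.is_two_pretransitive_iff]
    intro a b c d hab hcd
    obtain ⟨g, rfl⟩ := QuotientGroup.mk_surjective a
    obtain ⟨k, rfl⟩ := QuotientGroup.mk_surjective c
    have hne : ∀ (g : G) (x : G ⧸ nor S), (g : G ⧸ nor S) ≠ x → g⁻¹ • x ≠ base S := fun g x hx e' =>
      hx (by rw [inv_smul_eq_iff, base_translate] at e'; exact e'.symm)
    obtain ⟨a, ha, -⟩ := hS.regular (hne g b hab) (hne k d hcd)
    refine ⟨k * a * g⁻¹, ?_, ?_⟩
    · rw [mul_smul, mul_smul, ← base_translate, inv_smul_smul,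
        Hyp.smul_one_eq_iff.2 (cen_le_nor a.2), base_translate]
    · rw [mul_smul, mul_smul, ha, smul_inv_smul]
  · obtain ⟨B, hB⟩ := hS.exists_other
    obtain ⟨d, hd, hd1⟩ := hS.two_nontrivial hB
    exact ⟨d, hd1, base S, B, Ne.symm hB, hd.1, hd.2⟩
  · intro M hM htr
    by_contra hh
    push Not at hh
    have hcard : Nat.card M = Nat.card (G ⧸ nor S) := by
      refine Nat.card_congr (Equiv.ofBijective (fun m : M => m • base S) ⟨fun x y e => ?_,
        fun z => htr.exists_smul_eq (base S) z⟩)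
      simp only at e
      have : y⁻¹ * x ∈ stabilizer M (base S) := by
        rw [mem_stabilizer_iff, mul_smul, e, inv_smul_smul]
      have h' := (hh (base S)).le this
      rw [Subgroup.mem_bot, inv_mul_eq_one] at h'
      exact h'.symm
    have hM1 := hO M hM (by rw [hcard, hn]; exact hS.even_card_cen.add_one)
    rw [hM1, Subgroup.card_bot] at hcard
    omega

/-- When `C(S)` is a 2-group, no subgroup of odd order is transitive on the involutions. -/
theorem no_odd_transitive (hA2 : IsPGroup 2 (cen S)) (D : Subgroup G) (hD : Odd (Nat.card D))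
    (htr : ∀ s t : G, orderOf s = 2 → orderOf t = 2 → ∃ d ∈ D, d * s * d⁻¹ = t) : False := by
  classical
  obtain ⟨s, t, hs, ht, h2, h2', hne⟩ := hS.two
  set o := base S with ho
  -- `D` is transitive on the points
  have htrans : ∀ B : G ⧸ nor S, ∃ d ∈ D, d • o = B := by
    intro B
    obtain ⟨g, rfl⟩ := QuotientGroup.mk_surjective B
    obtain ⟨d, hd, he⟩ := htr s (g * s * g⁻¹) h2 (by rw [orderOf_conj, h2])
    refine ⟨d, hd, ?_⟩
    have hm : g⁻¹ * d ∈ nor S := StronglyEmbedded.mem_of_conj hS.strongly (Subgroup.le_normalizer hs) h2 (by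
      rw [show g⁻¹ * d * s * (g⁻¹ * d)⁻¹ = g⁻¹ * (d * s * d⁻¹) * g by group, he,
        show g⁻¹ * (g * s * g⁻¹) * g = s by group]
      exact Subgroup.le_normalizer hs)
    rw [ho, base_translate, QuotientGroup.eq, ← inv_mem_iff, mul_inv_rev, inv_inv]
    exact hm
  set T := D ⊓ stabilizer G o with hT
  have hTodd : Odd (Nat.card T) := hD.of_dvd_nat (Subgroup.card_dvd_of_le inf_le_left)
  have hT1 : 1 < Nat.card T := by
    obtain ⟨d, hd, he⟩ := htr s t h2 h2'
    have hdN : d ∈ nor S := StronglyEmbedded.mem_of_conj hS.strongly (Subgroup.le_normalizer hs) h2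
      (by rw [he]; exact Subgroup.le_normalizer ht)
    refine Finite.one_lt_card_iff_nontrivial.2 ⟨⟨⟨d, hd, Hyp.smul_one_eq_iff.2 hdN⟩, 1, fun e => hne ?_⟩⟩
    have e' : d = 1 := congrArg Subtype.val e
    rw [← he, e']
    group
  obtain ⟨p, hp, hpT⟩ := Nat.exists_prime_and_dvd hT1.ne'
  haveI := Fact.mk hp
  obtain ⟨P⟩ : Nonempty (Sylow p T) := inferInstance
  set R : Subgroup G := (P : Subgroup T).map T.subtype with hR
  have hRT : R ≤ T := Subgroup.map_subtype_le _
  have hRcard : Nat.card R = p ^ (Nat.card T).factorization p := by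
    rw [hR, Subgroup.card_map_of_injective T.subtype_injective, P.card_eq_multiplicity]
  have hRp : IsPGroup p R := IsPGroup.of_card hRcard
  -- `R` fixes a second point
  obtain ⟨Q, hQo, hQR⟩ : ∃ Q : G ⧸ nor S, Q ≠ o ∧ ∀ r ∈ R, r • Q = Q := by
    by_contra hh
    push Not at hh
    haveI := Fintype.ofFinite (G ⧸ nor S)
    have hfix : fixedPoints R (G ⧸ nor S) = {o} := by
      ext B
      simp only [mem_fixedPoints, Set.mem_singleton_iff, Subtype.forall, Subgroup.mk_smul]
      refine ⟨fun hB => ?_, fun e r hr => e ▸ (hRT hr).2⟩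
      by_contra hne
      obtain ⟨r, hr, hr'⟩ := hh B hne
      exact hr' (hB r hr)
    have hmod := hRp.card_modEq_card_fixedPoints (G ⧸ nor S)
    rw [hfix, Nat.card_eq_fintype_card (α := ({o} : Set (G ⧸ nor S))), Set.card_singleton,
      hS.card_points] at hmod
    have hdvd : p ∣ Nat.card (cen S) := by
      have := (Nat.modEq_iff_dvd' (by omega)).1 hmod.symm
      simpa using this
    haveI : Fact (Nat.Prime 2) := ⟨Nat.prime_two⟩
    obtain ⟨k, hk⟩ := IsPGroup.iff_card.1 hA2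
    rw [hk] at hdvd
    have hp2 := (Nat.prime_dvd_prime_iff_eq hp Nat.prime_two).1 (hp.dvd_of_dvd_pow hdvd)
    obtain ⟨j, hj⟩ := hTodd
    rw [hp2] at hpT
    omega
  obtain ⟨r, hr, hr1⟩ : ∃ r ∈ R, r ≠ 1 := by
    by_contra hh
    push Not at hh
    have h1 : Nat.card R = 1 := by
      rw [(Subgroup.eq_bot_iff_forall R).2 hh, Subgroup.card_bot]
    rw [hRcard, Nat.pow_eq_one] at h1
    rcases h1 with h1 | h1
    · exact hp.one_lt.ne' h1
    · exact absurd h1 (Nat.pos_iff_ne_zero.1 (hp.factorization_pos_of_dvd Nat.card_pos.ne' hpT))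
  -- an element of `D` normalizing `R` fixes `o`
  have hnorm : ∀ h ∈ D, (∀ x ∈ R, h⁻¹ * x * h ∈ R) → h • o = o := by
    intro h hh hn
    have hfix : ∀ Z : G ⧸ nor S, Z = o ∨ Z = Q → h • Z = o ∨ h • Z = Q := by
      intro Z hZ
      by_contra hne
      push Not at hne
      have h1 : r • (h • Z) = h • Z := by
        have h0 : (h⁻¹ * r * h) • Z = Z := by
          rcases hZ with rfl | rfl
          · exact (hRT (hn r hr)).2
          · exact hQR _ (hn r hr)
        calc r • (h • Z) = h • ((h⁻¹ * r * h) • Z) := by rw [← mul_smul, ← mul_smul]; group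
          _ = h • Z := by rw [h0]
      exact hne.2 (hS.fix_two hr1 (hRT hr).2 (hQR r hr) hQo h1 hne.1)
    rcases hfix o (Or.inl rfl) with h1 | h1
    · exact h1
    exfalso
    have h2 : h • Q = o := (hfix Q (Or.inr rfl)).resolve_right fun e => hQo (smul_left_cancel h (e.trans h1.symm))
    have h3 : (h ^ 2) • o = o := by rw [sq, mul_smul, h1, h2]
    obtain ⟨k, hk⟩ : Odd (orderOf h) := hD.of_dvd_nat (Subgroup.orderOf_mk h hh ▸ orderOf_dvd_natCard _)
    have h4 : ∀ i : ℕ, (h ^ 2) ^ i • o = o := by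
      intro i
      induction i with
      | zero => rw [pow_zero, one_smul]
      | succ i ih => rw [pow_succ, mul_smul, h3, ih]
    have h5 : h = (h ^ 2) ^ (k + 1) := by
      rw [← pow_mul, show 2 * (k + 1) = orderOf h + 1 by omega, pow_succ, pow_orderOf_eq_one, one_mul]
    rw [h5, h4] at h1
    exact hQo h1.symm
  -- conjugate `R` inside the stabilizer of `Q`
  obtain ⟨g, hg, hgQ⟩ := htrans Q
  set T' := D ⊓ stabilizer G Q with hT'
  have hconjT : T.map (MulAut.conj g).toMonoidHom = T' := by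
    ext x
    constructor
    · rintro ⟨y, ⟨hyD, hyo⟩, rfl⟩
      refine ⟨D.mul_mem (D.mul_mem hg hyD) (D.inv_mem hg), ?_⟩
      show (g * y * g⁻¹) • Q = Q
      rw [← hgQ, ← mul_smul, inv_mul_cancel_right, mul_smul, show y • o = o from hyo]
    · rintro ⟨hxD, hxQ⟩
      refine ⟨g⁻¹ * x * g, ⟨D.mul_mem (D.mul_mem (D.inv_mem hg) hxD) hg, ?_⟩, ?_⟩
      · show (g⁻¹ * x * g) • o = o
        rw [mul_smul, mul_smul, hgQ, show x • Q = Q from hxQ, ← hgQ, inv_smul_smul]
      · show g * (g⁻¹ * x * g) * g⁻¹ = x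
        group
  have hT'card : Nat.card T' = Nat.card T := by
    rw [← hconjT, Subgroup.card_map_of_injective (MulAut.conj g).injective]
  have hR1 : R.map (MulAut.conj g).toMonoidHom ≤ T' := hconjT ▸ Subgroup.map_mono hRT
  have hR2 : R ≤ T' := fun x hx => ⟨(hRT hx).1, hQR x hx⟩
  have hc1 : Nat.card ((R.map (MulAut.conj g).toMonoidHom).subgroupOf T') =
      p ^ (Nat.card T').factorization p := by
    rw [hT'card, Nat.card_congr (Subgroup.subgroupOfEquivOfLe hR1).toEquiv,
      Subgroup.card_map_of_injective (MulAut.conj g).injective, hRcard]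
  have hc2 : Nat.card (R.subgroupOf T') = p ^ (Nat.card T').factorization p := by
    rw [hT'card, Nat.card_congr (Subgroup.subgroupOfEquivOfLe hR2).toEquiv, hRcard]
  obtain ⟨x, hx⟩ := MulAction.exists_smul_eq T'
    (Sylow.ofCard _ hc1) (Sylow.ofCard _ hc2)
  have hxR : ∀ y ∈ R, ((x : G) * g)⁻¹ * y * ((x : G) * g) ∈ R := by
    intro y hy
    have hy' : (⟨y, hR2 hy⟩ : T') ∈ ((Sylow.ofCard _ hc2 : Sylow p T') : Subgroup T') := hy
    rw [← hx, Sylow.coe_subgroup_smul] at hy'
    obtain ⟨z, hz, hzy⟩ := hy'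
    obtain ⟨w, hw, hwz⟩ : ∃ w ∈ R, g * w * g⁻¹ = (z : G) := hz
    have hzy' : (x : G) * (z : G) * (x : G)⁻¹ = y := congrArg Subtype.val hzy
    rw [← hzy', ← hwz]
    convert hw using 1
    group
  have h6 := hnorm _ (mul_mem x.2.1 hg) hxR
  rw [mul_smul, hgQ, show (x : G) • Q = Q from x.2.2] at h6
  exact hQo h6

/-- Such a group is `SL₂` over a field of characteristic two. -/
theorem iso (hO : ∀ M : Subgroup G, M.Normal → Odd (Nat.card M) → M = ⊥) :
    ∃ (K : Type) (_ : Field K) (_ : Fintype K), CharP K 2 ∧ IsSimpleGroup G ∧ IsPGroup 2 (cen S) ∧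
      Nonempty (G ≃* Matrix.SpecialLinearGroup (Fin 2) K) := by
  classical
  haveI := Fintype.ofFinite G
  haveI := Fintype.ofFinite (G ⧸ nor S)
  have hZ := hS.zass hO
  have hn := hS.card_points
  obtain ⟨B, hB⟩ := hS.exists_other
  have hreg : ∀ y z : G ⧸ nor S, y ≠ base S → z ≠ base S → ∃! a : cen S, (a : G) • y = z :=
    fun y z hy hz => hS.regular hy hz
  have hle : cen S ≤ stabilizer G (base S) := by rw [stab_base]; exact cen_le_nor
  have hnm : ((cen S).subgroupOf (stabilizer G (base S))).Normal := ⟨fun a ha g =>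
    cen_conj (mem_nor g.2) ha⟩
  have hcomm : IsMulCommutative (cen S) := ⟨⟨fun a b => Subtype.ext (hS.comm a a.2 b b.2)⟩⟩
  have hΩodd : Odd (Fintype.card (G ⧸ nor S)) := by
    rw [← Nat.card_eq_fintype_card, hn]; exact hS.even_card_cen.add_one
  have hsimp := S0338.result hZ hΩodd
  have hc : CharTheory.Zassenhaus.Config (base S) B (cen S) := by
    refine ⟨hZ, Ne.symm hB, hle, ?_, fun u hu hu1 c hc => hS.fix_unique hu hu1 hc⟩
    rw [← Nat.card_eq_fintype_card, hn]
  obtain ⟨u, hu, huo, -⟩ := hS.exists_swap (Ne.symm hB)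
  have hodd : Odd (Nat.card ↥(stabilizer G (base S) ⊓ stabilizer G B)) := by
    have h := hS.strongly.2.2 u fun h => hB (huo ▸ Hyp.smul_one_eq_iff.2 h)
    refine h.of_dvd_nat (Subgroup.card_dvd_of_le ?_)
    rintro x ⟨hx1, hx2⟩
    refine ⟨mem_nor hx1, u⁻¹ * x * u, Hyp.smul_one_eq_iff.1 ?_, ?_⟩
    · rw [mul_smul, mul_smul, huo, show x • B = B from hx2, ← huo, inv_smul_smul]
    · show u * (u⁻¹ * x * u) * u⁻¹ = x
      group
  rcases CharTheory.Zassenhaus.feit_all _ G (G ⧸ nor S) (base S) B (cen S) rfl hc hodd with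
    hsmall | ⟨-, ⟨a, b, hab⟩, -⟩
  swap
  · exact absurd (Subtype.ext (hS.comm a a.2 b b.2)) hab
  set d := Nat.card ↥(stabilizer G (base S) ⊓ stabilizer G B) with hd
  obtain ⟨-, p, f, hp, hexp, hpf⟩ := S0738.result hZ (Ne.symm hB) (by
    show Fintype.card (G ⧸ nor S) - 2 ≤ 2 * d
    have := hc.card
    have hs' : Nat.card (cen S) - 1 ≤ 2 * d := hsmall
    omega) (cen S) hle hnm hreg
  have hp2 : p = 2 := by
    obtain ⟨s, hs, h2⟩ := hS.exists_invol
    have := orderOf_dvd_of_pow_eq_one (hexp s (hS.le hs))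
    rw [h2] at this
    exact ((Nat.prime_dvd_prime_iff_eq Nat.prime_two hp).1 this).symm
  subst hp2
  have h2A : IsPGroup 2 (cen S) := fun a => ⟨1, Subtype.ext (by
    rw [pow_one]; exact hexp a a.2)⟩
  have h := Perm.Zassenhaus.frame_of_zass hZ (Ne.symm hB) (cen S) hle hnm hcomm hreg
  have hs' : Nat.card (cen S) - 1 ≤ 2 * d := hsmall
  obtain ⟨k, hk⟩ : d ∣ Nat.card (cen S) - 1 := h.card_dvd
  obtain ⟨j, hj⟩ := hS.even_card_cen
  have hApos : 0 < Nat.card (cen S) := Nat.card_pos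
  have hd1 : 1 < d := Perm.Zassenhaus.two_lt_stab hZ (Ne.symm hB)
  rcases k with _ | _ | _ | k
  · rw [mul_zero] at hk; omega
  swap
  · omega
  swap
  · exfalso
    have : d * 3 ≤ d * (k + 3) := Nat.mul_le_mul_left _ (by omega)
    rw [show k + 1 + 1 + 1 = k + 3 from rfl] at hk
    omega
  rw [zero_add, mul_one] at hk
  obtain ⟨s, hs, hsa, -⟩ := CharTheory.Zassenhaus.exists_swap hc
  have hs2 : s * s = 1 := CharTheory.Zassenhaus.inv_mul_self hs
  have hΩ : Nat.card (G ⧸ nor S) = d + 2 := by omega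
  have hinv := h.inverted_char_two hsa hs2 (fun u hu => by rw [← sq]; exact hexp u hu) hΩ
  obtain ⟨K, i1, i2, hK, hpgl, -⟩ := h.iso_of_inverted hsa hs2 hinv (Or.inl hΩ)
  obtain ⟨e⟩ := hpgl hΩ
  have hchar : ringChar K = 2 := FiniteField.even_card_iff_char_two.2 (by
    omega)
  haveI : CharP K 2 := hchar ▸ ringChar.charP K
  let e' : Matrix.ProjectiveSpecialLinearGroup (Fin 2) K ≃* Matrix.ProjGenLinGroup (Fin 2) K :=
    MulEquiv.ofBijective Matrix.ProjectiveSpecialLinearGroup.toPGL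
      ⟨Matrix.ProjectiveSpecialLinearGroup.toPGL_injective,
        Matrix.ProjectiveSpecialLinearGroup.toPGL_surj_of_roots fun r => by
          obtain ⟨t, ht⟩ := FiniteField.isSquare_of_char_two hchar (r : K)
          have ht0 : t ≠ 0 := by rintro rfl; simp at ht
          exact ⟨Units.mk0 t ht0, Units.ext (by simp [ht, sq])⟩⟩
  have hZbot : Subgroup.center (Matrix.SpecialLinearGroup (Fin 2) K) = ⊥ := by
    rw [Subgroup.eq_bot_iff_forall]
    intro x hx
    obtain ⟨c, hc, hcx⟩ := Matrix.SpecialLinearGroup.mem_center_iff.1 hx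
    rw [Fintype.card_fin] at hc
    have hc1 : c = 1 := by
      have h0 : (c - 1) * (c - 1) = 0 := by
        linear_combination hc + (1 - c) * (CharTwo.two_eq_zero : (2 : K) = 0)
      exact sub_eq_zero.1 (mul_self_eq_zero.1 h0)
    refine Subtype.ext ?_
    rw [← hcx, hc1]
    simp
  let e'' : Matrix.SpecialLinearGroup (Fin 2) K ≃* Matrix.ProjectiveSpecialLinearGroup (Fin 2) K :=
    (QuotientGroup.quotientBot.symm).trans (QuotientGroup.quotientMulEquivOfEq hZbot.symm)
  exact ⟨K, i1, i2, inferInstance, hsimp, h2A, ⟨(e.trans e'.symm).trans e''.symm⟩⟩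

end Hyp

end Cfsg.Agent.Involutions.AbelianCentralizer
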