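import Mathlib
import Cfsg.Agent.Lib.Involutions.AbelianCentralizer.Action
import Cfsg.Agent.Lib.Cores.Basic
import Cfsg.Agent.Lib.Components.Hyperplane
import Cfsg.Agent.Lib.Transfer.CenterInf
import Cfsg.Agent.Lib.Classical.SylowSL2
import Cfsg.Agent.Lib.PGroups.UniqueSubgroup

/-!
# Groups in which the centralizer of every involution is abelian

If a Sylow 2-subgroup is neither cyclic nor normal, the group is the direct product of `SL₂` over a
field of characteristic two and its odd core, which is abelian.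
-/

set_option autoImplicit false
set_option linter.unusedSectionVars false
set_option linter.style.haveILetI false

namespace Cfsg.Agent.Involutions.AbelianCentralizer

open Involutions.Basic

universe u

variable {G : Type u} [Group G] [Finite G]

/-- The centralizers of the involutions are abelian. -/
def AC (G : Type u) [Group G] : Prop :=
  ∀ t : G, orderOf t = 2 → ∀ a ∈ Subgroup.centralizer ({t} : Set G),
    ∀ b ∈ Subgroup.centralizer ({t} : Set G), a * b = b * a

/-- The conclusion. -/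
def Good (S : Sylow 2 G) : Prop :=
  Cfsg.oddCore G ≤ Subgroup.center G ∧
  (∀ x ∈ cen S, ∃ k : ℕ, x ^ 2 ^ k ∈ Cfsg.oddCore G) ∧
  ∃ L : Subgroup G, L.Normal ∧ L ⊓ Cfsg.oddCore G = ⊥ ∧ L ⊔ Cfsg.oddCore G = ⊤ ∧
    ∃ (K : Type) (_ : Field K) (_ : Fintype K), CharP K 2 ∧
      Nonempty (L ≃* Matrix.SpecialLinearGroup (Fin 2) K)

theorem two_mem_cases {x : G} {k : ℕ} (hk : x ^ 2 ^ k = 1) (ho : Odd (orderOf x)) : x = 1 :=
  orderOf_eq_one_iff.1 (Nat.eq_one_of_dvd_coprimes ((Nat.coprime_two_left.2 ho).pow_left k)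
    (orderOf_dvd_of_pow_eq_one hk) dvd_rfl)

theorem odd_orderOf_of_mem {O : Subgroup G} (hO : Odd (Nat.card O)) {x : G} (hx : x ∈ O) :
    Odd (orderOf x) :=
  hO.of_dvd_nat (Subgroup.orderOf_mk x hx ▸ orderOf_dvd_natCard _)

theorem two_sylow_pow {S : Sylow 2 G} {x : G} (hx : x ∈ (S : Subgroup G)) :
    ∃ k : ℕ, x ^ 2 ^ k = 1 := by
  obtain ⟨k, hk⟩ := S.isPGroup' (⟨x, hx⟩ : (S : Subgroup G))
  exact ⟨k, congrArg Subtype.val hk⟩

/-- An odd element with a 2-power in a subgroup lies in it. -/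
theorem mem_of_pow_mem {O : Subgroup G} {x : G} (ho : Odd (orderOf x)) {k : ℕ} (h : x ^ 2 ^ k ∈ O) :
    x ∈ O := by
  obtain ⟨j, hj⟩ := exists_pow_eq_self_of_coprime
    (show Nat.Coprime (2 ^ k) (orderOf x) from (Nat.coprime_two_left.2 ho).pow_left k)
  rw [← hj]
  exact pow_mem h j

theorem two_elt_inv {H : Type*} [Group H] [Finite H] {N : Subgroup G} [N.Normal]
    (hN : Odd (Nat.card N)) (f : G →* H) (hf : f.ker = N) {t : G} {k : ℕ} (hk : t ^ 2 ^ k = 1)
    (ht : orderOf (f t) = 2) : orderOf t = 2 := by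
  refine Involutions.Basic.orderOf_two_iff.2 ⟨?_, fun e => ?_⟩
  · have hm : t * t ∈ N := by
      rw [← hf, MonoidHom.mem_ker, map_mul, inv_sq_one ht]
    refine two_mem_cases (k := k) ?_ (odd_orderOf_of_mem hN hm)
    rw [← sq, ← pow_mul, mul_comm, pow_mul, hk, one_pow]
  · rw [e, map_one, orderOf_one] at ht
    exact absurd ht (by norm_num)

section Basic

variable (hAC : AC G) (S : Sylow 2 G) (hnc : ¬ IsCyclic (S : Subgroup G))
include hAC hnc

theorem exists_central : ∃ z ∈ (S : Subgroup G), orderOf z = 2 ∧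
    ∀ x ∈ (S : Subgroup G), x * z = z * x := by
  haveI : Fact (Nat.Prime 2) := ⟨Nat.prime_two⟩
  haveI : Nontrivial (S : Subgroup G) := by
    by_contra h
    rw [not_nontrivial_iff_subsingleton] at h
    exact hnc isCyclic_of_subsingleton
  haveI := S.isPGroup'.center_nontrivial
  have hc : Nat.card (Subgroup.center (S : Subgroup G)) ≠ 1 :=
    (Finite.one_lt_card).ne'
  obtain ⟨j, hj⟩ := IsPGroup.iff_card.1 (S.isPGroup'.to_subgroup (Subgroup.center _))
  have h2 : 2 ∣ Nat.card (Subgroup.center (S : Subgroup G)) := by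
    rcases j with _ | j
    · rw [hj, pow_zero] at hc; exact absurd rfl hc
    · rw [hj]; exact dvd_pow_self 2 (Nat.succ_ne_zero j)
  obtain ⟨z, hz⟩ := exists_prime_orderOf_dvd_card' 2 h2
  refine ⟨((z : (S : Subgroup G)) : G), (z : (S : Subgroup G)).2, ?_, fun x hx => ?_⟩
  · rw [Subgroup.orderOf_coe, Subgroup.orderOf_coe, hz]
  · exact congrArg Subtype.val (Subgroup.mem_center_iff.1 z.2 ⟨x, hx⟩)

theorem sylow_le_cen : (S : Subgroup G) ≤ cen S := by
  obtain ⟨z, hz, h2, hc⟩ := exists_central hAC S hnc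
  intro a ha
  rw [Subgroup.mem_centralizer_iff]
  intro b hb
  exact hAC z h2 b (Subgroup.mem_centralizer_singleton_iff.2 (hc b hb)) a
    (Subgroup.mem_centralizer_singleton_iff.2 (hc a ha))

theorem cent_eq {s : G} (hs : s ∈ (S : Subgroup G)) (h2 : orderOf s = 2) :
    Subgroup.centralizer ({s} : Set G) = cen S := by
  refine le_antisymm (fun g hg => ?_) (fun g hg => ?_)
  · rw [Subgroup.mem_centralizer_iff]
    intro x hx
    exact hAC s h2 x (Subgroup.mem_centralizer_singleton_iff.2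
      (Subgroup.mem_centralizer_iff.1 (sylow_le_cen hAC S hnc hs) x hx)) g hg
  · exact Subgroup.mem_centralizer_singleton_iff.2 (Subgroup.mem_centralizer_iff.1 hg s hs).symm

theorem cen_comm : ∀ a ∈ cen S, ∀ b ∈ cen S, a * b = b * a := by
  obtain ⟨z, hz, h2, -⟩ := exists_central hAC S hnc
  intro a ha b hb
  rw [← cent_eq hAC S hnc hz h2] at ha hb
  exact hAC z h2 a ha b hb

theorem two_involutions : ∃ s t : G, s ∈ (S : Subgroup G) ∧ t ∈ (S : Subgroup G) ∧ orderOf s = 2 ∧
    orderOf t = 2 ∧ s ≠ t := by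
  haveI : Fact (Nat.Prime 2) := ⟨Nat.prime_two⟩
  haveI : IsMulCommutative (S : Subgroup G) := ⟨⟨fun a b => Subtype.ext
    (Subgroup.mem_centralizer_iff.1 (sylow_le_cen hAC S hnc b.2) a a.2)⟩⟩
  by_contra hh
  push Not at hh
  refine hnc (PGroups.UniqueSubgroup.isCyclic_of_abelian S.isPGroup' fun x y hx hy hx1 => ?_)
  by_cases hy1 : y = 1
  · rw [hy1]; exact one_mem _
  · have h2x : orderOf (x : G) = 2 := by rw [Subgroup.orderOf_coe]; exact orderOf_eq_prime hx hx1
    have h2y : orderOf (y : G) = 2 := by rw [Subgroup.orderOf_coe]; exact orderOf_eq_prime hy hy1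
    have : x = y := Subtype.ext (hh _ _ x.2 y.2 h2x h2y)
    rw [this]; exact Subgroup.mem_zpowers y

theorem oddCore_le_cen : Cfsg.oddCore G ≤ cen S := by
  haveI : Fact (Nat.Prime 2) := ⟨Nat.prime_two⟩
  obtain ⟨s, t, hs, ht, h2, h2', hne⟩ := two_involutions hAC S hnc
  have hcl : Subgroup.closure ({s, t} : Set G) ≤ (S : Subgroup G) :=
    (Subgroup.closure_le _).2 (Set.insert_subset hs (Set.singleton_subset_iff.2 ht))
  have hcm : ∀ a ∈ (S : Subgroup G), ∀ b ∈ (S : Subgroup G), Commute a b := fun a ha b hb =>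
    (Subgroup.mem_centralizer_iff.1 (sylow_le_cen hAC S hnc hb) a ha)
  have hV : Cfsg.IsElementaryAbelian 2 (Subgroup.closure ({s, t} : Set G)) := by
    refine ⟨⟨⟨fun a b => Subtype.ext (hcm a (hcl a.2) b (hcl b.2))⟩⟩, fun a ha => ?_⟩
    induction ha using Subgroup.closure_induction with
    | mem x hx =>
      rcases hx with rfl | rfl
      · rw [← h2]; exact pow_orderOf_eq_one x
      · rw [← h2']; exact pow_orderOf_eq_one x
    | one => exact one_pow 2
    | mul x y hx hy ihx ihy => rw [(hcm x (hcl hx) y (hcl hy)).mul_pow, ihx, ihy, one_mul]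
    | inv x hx ih => rw [inv_pow, ih, inv_one]
  have hV4 : 2 ^ 2 ≤ Nat.card (Subgroup.closure ({s, t} : Set G)) := by
    obtain ⟨k, hk⟩ := IsPGroup.iff_card.1 (Components.Hyperplane.isPGroup hV)
    have h3 : 2 < Nat.card (Subgroup.closure ({s, t} : Set G)) := by
      classical
      haveI := Fintype.ofFinite (Subgroup.closure ({s, t} : Set G))
      rw [Nat.card_eq_fintype_card, Fintype.two_lt_card_iff]
      exact ⟨1, ⟨s, Subgroup.subset_closure (by simp)⟩, ⟨t, Subgroup.subset_closure (by simp)⟩,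
        fun e => Involutions.Basic.ne_one h2 (congrArg Subtype.val e).symm,
        fun e => Involutions.Basic.ne_one h2' (congrArg Subtype.val e).symm,
        fun e => hne (congrArg Subtype.val e)⟩
    rw [hk] at h3 ⊢
    exact Nat.pow_le_pow_right two_pos (by
      by_contra hk2
      interval_cases k <;> omega)
  haveI := Cores.pPrimeCore_normal (G := G) 2
  rw [Components.Hyperplane.eq_iSup_hyperplane hV hV4 (K := Cfsg.oddCore G)
    (Nat.prime_two.coprime_iff_not_dvd.1 (Nat.coprime_two_left.2 Cores.oddCore_odd))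
    (by rw [Subgroup.normalizer_eq_top]; exact le_top)]
  refine iSup_le fun D => ?_
  obtain ⟨D, hD, hD2⟩ := D
  obtain ⟨d, hd, hd1⟩ : ∃ d ∈ D, d ≠ 1 := by
    by_contra h
    push Not at h
    rw [(Subgroup.eq_bot_iff_forall D).2 h, Subgroup.relIndex_bot_left] at hD2
    omega
  refine inf_le_right.trans ((Subgroup.centralizer_le (s := {d}) ?_).trans ?_)
  · exact Set.singleton_subset_iff.2 hd
  · rw [cent_eq hAC S hnc (hcl (hD hd)) (Components.Hyperplane.orderOf_eq hV (hD hd) hd1)]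

end Basic

/-- The hypothesis passes to subgroups. -/
theorem AC.subgroup (hAC : AC G) (C : Subgroup G) : AC C := by
  intro t ht a ha b hb
  refine Subtype.ext (hAC (t : G) (by rw [Subgroup.orderOf_coe, ht]) a ?_ b ?_) <;>
    rw [Subgroup.mem_centralizer_singleton_iff]
  · exact congrArg Subtype.val (Subgroup.mem_centralizer_singleton_iff.1 ha)
  · exact congrArg Subtype.val (Subgroup.mem_centralizer_singleton_iff.1 hb)

section Good

variable {S : Sylow 2 G} (hGood : Good S)
include hGood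

omit hGood in
theorem exists_split {L : Subgroup G} (hsup : L ⊔ Cfsg.oddCore G = ⊤) (g : G) :
    ∃ l ∈ L, ∃ z ∈ Cfsg.oddCore G, l * z = g := by
  haveI := Cores.pPrimeCore_normal (G := G) 2
  exact Subgroup.mem_sup_of_normal_right.1 (hsup ▸ Subgroup.mem_top g)

theorem two_mem {L : Subgroup G} (hsup : L ⊔ Cfsg.oddCore G = ⊤) {g : G} {k : ℕ}
    (hk : g ^ 2 ^ k = 1) : g ∈ L := by
  obtain ⟨l, hl, z, hz, rfl⟩ := exists_split hsup g
  refine mul_mem hl (mem_of_pow_mem (k := k) (odd_orderOf_of_mem Cores.oddCore_odd hz) ?_)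
  have hc : Commute l z := Subgroup.mem_center_iff.1 (hGood.1 hz) l
  rw [hc.mul_pow] at hk
  rw [show z ^ 2 ^ k = (l ^ 2 ^ k)⁻¹ from eq_inv_of_mul_eq_one_right hk]
  exact inv_mem (pow_mem hl _)

/-- The subgroup `L` satisfies the hypotheses, and its common centralizer is a 2-group. -/
theorem hyp_complement (hAC : AC G) (hnc : ¬ IsCyclic (S : Subgroup G))
    (hnn : ¬ (S : Subgroup G).Normal) {L : Subgroup G} (hn : L.Normal)
    (hinf : L ⊓ Cfsg.oddCore G = ⊥) (hsup : L ⊔ Cfsg.oddCore G = ⊤) (hSL : (S : Subgroup G) ≤ L) :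
    Hyp (S.subtype hSL) ∧ IsPGroup 2 (cen (S.subtype hSL)) := by
  haveI : Fact (Nat.Prime 2) := ⟨Nat.prime_two⟩
  have hmem : ∀ x : L, x ∈ (S.subtype hSL : Subgroup L) ↔ (x : G) ∈ (S : Subgroup G) := fun x =>
    Iff.rfl
  have hmemc : ∀ x : L, x ∈ cen (S.subtype hSL) ↔ (x : G) ∈ cen S := by
    intro x
    rw [Subgroup.mem_centralizer_iff, Subgroup.mem_centralizer_iff]
    exact ⟨fun h y hy => congrArg Subtype.val (h ⟨y, hSL hy⟩ ((hmem _).2 hy)),
      fun h y hy => Subtype.ext (h y ((hmem y).1 hy))⟩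
  have h2 : IsPGroup 2 (cen (S.subtype hSL)) := by
    rintro ⟨x, hx⟩
    obtain ⟨k, hk⟩ := hGood.2.1 _ ((hmemc x).1 hx)
    refine ⟨k, Subtype.ext (Subtype.ext ?_)⟩
    have : (x : G) ^ 2 ^ k ∈ L ⊓ Cfsg.oddCore G := ⟨pow_mem x.2 _, hk⟩
    rw [hinf, Subgroup.mem_bot] at this
    simpa using this
  have hle : (S.subtype hSL : Subgroup L) ≤ cen (S.subtype hSL) := fun x hx =>
    (hmemc x).2 (sylow_le_cen hAC S hnc ((hmem x).1 hx))
  have hcent : ∀ s ∈ (S.subtype hSL : Subgroup L), orderOf s = 2 →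
      Subgroup.centralizer ({s} : Set L) = cen (S.subtype hSL) := by
    intro s hs hs2
    have h := cent_eq hAC S hnc ((hmem s).1 hs) (by rw [Subgroup.orderOf_coe, hs2])
    ext x
    rw [hmemc, ← h, Subgroup.mem_centralizer_singleton_iff, Subgroup.mem_centralizer_singleton_iff]
    exact Subtype.ext_iff
  refine ⟨⟨fun a ha b hb => Subtype.ext (cen_comm hAC S hnc a ((hmemc a).1 ha) b ((hmemc b).1 hb)),
    hle, hcent, ?_, ?_, ?_⟩, h2⟩
  · obtain ⟨s, t, hs, ht, hs2, ht2, hne⟩ := two_involutions hAC S hnc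
    exact ⟨⟨s, hSL hs⟩, ⟨t, hSL ht⟩, (hmem _).2 hs, (hmem _).2 ht, by rwa [Subgroup.orderOf_mk],
      by rwa [Subgroup.orderOf_mk], fun e => hne (congrArg Subtype.val e)⟩
  · intro hN
    refine hnn ⟨fun x hx g => ?_⟩
    obtain ⟨l, hl, z, hz, rfl⟩ := exists_split hsup g
    have hc : z * x = x * z := (Subgroup.mem_center_iff.1 (hGood.1 hz) x).symm
    rw [show l * z * x * (l * z)⁻¹ = l * (z * x * z⁻¹) * l⁻¹ by group, hc, mul_inv_cancel_right]
    exact (hmem _).1 (hN.conj_mem ⟨x, hSL hx⟩ ((hmem _).2 hx) ⟨l, hl⟩)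
  · intro a ha ha1
    obtain ⟨k, hk⟩ := h2 ⟨a, ha⟩
    have hk' : a ^ 2 ^ k = 1 := congrArg Subtype.val hk
    have haS := two_power_mem (cen_le_nor ha) hk'
    obtain ⟨j, -, hj⟩ := (Nat.dvd_prime_pow Nat.prime_two).1 (orderOf_dvd_of_pow_eq_one hk')
    rcases j with _ | j
    · exact absurd (orderOf_eq_one_iff.1 (hj.trans (pow_zero 2))) ha1
    have hw : orderOf (a ^ 2 ^ j) = 2 := by
      rw [orderOf_pow_of_dvd (pow_ne_zero _ two_ne_zero) (hj ▸ pow_dvd_pow 2 (Nat.le_succ j)), hj,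
        pow_succ, Nat.mul_div_cancel_left _ (pow_pos two_pos _)]
    refine le_trans ?_ ((hcent _ (pow_mem haS _) hw).le.trans cen_le_nor)
    intro g hg
    rw [Subgroup.mem_centralizer_singleton_iff] at hg ⊢
    exact (Commute.pow_right hg _)

/-- In a group of the conclusion, involutions are conjugate to those of `S`. -/
theorem isConj_of_good (hAC : AC G) (hnc : ¬ IsCyclic (S : Subgroup G))
    (hnn : ¬ (S : Subgroup G).Normal) {s t : G} (hs : orderOf s = 2) (ht : orderOf t = 2) :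
    IsConj s t := by
  obtain ⟨-, -, L, hn, hinf, hsup, -⟩ := id hGood
  have hSL : (S : Subgroup G) ≤ L := fun x hx => by
    obtain ⟨k, hk⟩ := two_sylow_pow hx
    exact two_mem hGood hsup hk
  obtain ⟨hH, -⟩ := hyp_complement hGood hAC hnc hnn hn hinf hsup hSL
  have hm : ∀ x : G, orderOf x = 2 → x ∈ L := fun x hx =>
    two_mem hGood hsup (k := 1) (by rw [pow_one, ← hx, pow_orderOf_eq_one])
  obtain ⟨c, hc⟩ := isConj_iff.1 (StronglyEmbedded.isConj_involutions hH.strongly
    (a := (⟨s, hm s hs⟩ : L)) (b := (⟨t, hm t ht⟩ : L)) (by rwa [Subgroup.orderOf_mk])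
    (by rwa [Subgroup.orderOf_mk]))
  exact isConj_iff.2 ⟨c, congrArg Subtype.val hc⟩

/-- In a group of the conclusion, no subgroup of odd order is transitive on the involutions. -/
theorem no_odd_transitive_of_good (hAC : AC G) (hnc : ¬ IsCyclic (S : Subgroup G))
    (hnn : ¬ (S : Subgroup G).Normal) (D : Subgroup G) (hD : Odd (Nat.card D))
    (htr : ∀ s t : G, orderOf s = 2 → orderOf t = 2 → ∃ d ∈ D, d * s * d⁻¹ = t) : False := by
  obtain ⟨-, -, L, hn, hinf, hsup, -⟩ := id hGood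
  haveI := Cores.pPrimeCore_normal (G := G) 2
  have hSL : (S : Subgroup G) ≤ L := fun x hx => by
    obtain ⟨k, hk⟩ := two_sylow_pow hx
    exact two_mem hGood hsup hk
  obtain ⟨hH, h2⟩ := hyp_complement hGood hAC hnc hnn hn hinf hsup hSL
  refine hH.no_odd_transitive h2 ((D ⊔ Cfsg.oddCore G).subgroupOf L) ?_ fun s t hs ht => ?_
  · refine (hD.mul Cores.oddCore_odd).of_dvd_nat (dvd_trans ?_ (Cores.card_sup_dvd_mul D _))
    rw [← Subgroup.card_map_of_injective L.subtype_injective, Subgroup.subgroupOf_map_subtype]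
    exact Subgroup.card_dvd_of_le inf_le_left
  · obtain ⟨d, hd, hdt⟩ := htr s t (by rw [Subgroup.orderOf_coe, hs]) (by rw [Subgroup.orderOf_coe, ht])
    obtain ⟨l, hl, z, hz, rfl⟩ := exists_split hsup d
    have hlm : l ∈ D ⊔ Cfsg.oddCore G := by
      rw [show l = l * z * z⁻¹ by group]
      exact mul_mem (Subgroup.mem_sup_left hd) (inv_mem (Subgroup.mem_sup_right hz))
    refine ⟨⟨l, hl⟩, hlm, Subtype.ext ?_⟩
    show l * (s : G) * l⁻¹ = t
    rw [← hdt]
    have hc : z * (s : G) = s * z := (Subgroup.mem_center_iff.1 (hGood.1 hz) _).symm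
    rw [show l * z * (s : G) * (l * z)⁻¹ = l * (z * s * z⁻¹) * l⁻¹ by group, hc, mul_inv_cancel_right]

end Good

/-- With trivial odd core, a proper centralizer of this kind cannot occur. -/
theorem no_component (hAC : AC G) (S : Sylow 2 G) (hnc : ¬ IsCyclic (S : Subgroup G))
    (hO : Cfsg.oddCore G = ⊥)
    (ih : ∀ C : Subgroup G, C ≠ ⊤ → ∀ hSC : (S : Subgroup G) ≤ C, ¬ C ≤ nor S → Good (S.subtype hSC))
    {x : G} (hx : x ∈ cen S) (hx1 : x ≠ 1) (hodd : Odd (orderOf x)) :
    Subgroup.centralizer ({x} : Set G) ≤ nor S := by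
  haveI : Fact (Nat.Prime 2) := ⟨Nat.prime_two⟩
  by_contra hnle
  set C := Subgroup.centralizer ({x} : Set G) with hC
  have hcenle : ∀ y ∈ cen S, cen S ≤ Subgroup.centralizer ({y} : Set G) := fun y hy g hg =>
    Subgroup.mem_centralizer_singleton_iff.2 (cen_comm hAC S hnc g hg y hy)
  have hSC : (S : Subgroup G) ≤ C := (sylow_le_cen hAC S hnc).trans (hcenle x hx)
  have hne : ∀ y : G, y ≠ 1 → Odd (orderOf y) → Subgroup.centralizer ({y} : Set G) ≠ ⊤ := by
    intro y hy1 hyo htop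
    have hyc : y ∈ Subgroup.center G := Subgroup.mem_center_iff.2 fun g =>
      Subgroup.mem_centralizer_singleton_iff.1 (htop ▸ Subgroup.mem_top g)
    haveI : (Subgroup.zpowers y).Normal := ⟨fun a ha g => by
      rw [Subgroup.mem_center_iff.1 (Subgroup.zpowers_le.2 hyc ha) g, mul_inv_cancel_right]; exact ha⟩
    have := Cores.le_oddCore (N := Subgroup.zpowers y) (by rwa [Nat.card_zpowers])
      (Subgroup.mem_zpowers y)
    rw [hO, Subgroup.mem_bot] at this
    exact hy1 this
  have hncC : ∀ D : Subgroup G, ∀ h : (S : Subgroup G) ≤ D, ¬ IsCyclic (S.subtype h : Subgroup D) := by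
    intro D h hcyc
    exact hnc ((Subgroup.subgroupOfEquivOfLe h).isCyclic.1 hcyc)
  have hnnC : ∀ D : Subgroup G, ∀ h : (S : Subgroup G) ≤ D, ¬ D ≤ nor S →
      ¬ (S.subtype h : Subgroup D).Normal := fun D h hD hN =>
    hD ((Subgroup.normal_subgroupOf_iff_le_normalizer h).1 hN)
  -- odd elements of `C(S)` have the same centralizer
  have key : ∀ a b : G, a ∈ cen S → b ∈ cen S → a ≠ 1 → Odd (orderOf a) → Odd (orderOf b) →
      ¬ Subgroup.centralizer ({a} : Set G) ≤ nor S →
      Subgroup.centralizer ({a} : Set G) ≤ Subgroup.centralizer ({b} : Set G) := by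
    intro a b ha hb ha1 hao hbo hanle g hg
    have hSA := (sylow_le_cen hAC S hnc).trans (hcenle a ha)
    have hG := ih _ (hne a ha1 hao) hSA hanle
    obtain ⟨k, hk⟩ := hG.2.1 ⟨b, hcenle a ha hb⟩ (by
      rw [Subgroup.mem_centralizer_iff]
      exact fun y hy => Subtype.ext (Subgroup.mem_centralizer_iff.1 hb _ hy))
    have hbm := mem_of_pow_mem (by rwa [Subgroup.orderOf_mk]) hk
    exact Subgroup.mem_centralizer_singleton_iff.2
      (congrArg Subtype.val (Subgroup.mem_center_iff.1 (hG.1 hbm) ⟨g, hg⟩))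
  have hCC : C ≠ ⊤ := hne x hx1 hodd
  have hG := ih C hCC hSC hnle
  have hACC := hAC.subgroup C
  have hnc' := hncC C hSC
  have hnn' := hnnC C hSC hnle
  -- `C` is strongly embedded
  obtain ⟨s, -, hs, -, hs2, -⟩ := two_involutions hAC S hnc
  have hconj : ∀ t ∈ C, orderOf t = 2 → ∃ c ∈ C, c * t * c⁻¹ = s := by
    intro t ht ht2
    obtain ⟨c, hc⟩ := isConj_iff.1 (isConj_of_good hG hACC hnc' hnn' (s := ⟨t, ht⟩) (t := ⟨s, hSC hs⟩)
      (by rwa [Subgroup.orderOf_mk]) (by rwa [Subgroup.orderOf_mk]))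
    exact ⟨c, c.2, congrArg Subtype.val hc⟩
  have hse : Cfsg.IsStronglyEmbedded C := by
    refine StronglyEmbedded.of_conj hCC ?_ fun t ht ht2 g hg => ?_
    · rw [even_iff_two_dvd, ← hs2, ← Subgroup.orderOf_mk s (hSC hs)]
      exact orderOf_dvd_natCard _
    · obtain ⟨c, hc, hct⟩ := hconj t ht ht2
      obtain ⟨e, he, het⟩ := hconj _ hg (by rw [orderOf_conj, ht2])
      have hm : e * g * c⁻¹ ∈ C := by
        refine hcenle x hx (cent_eq hAC S hnc hs hs2 ▸ Subgroup.mem_centralizer_singleton_iff.2 ?_)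
        calc e * g * c⁻¹ * s = e * g * c⁻¹ * (c * t * c⁻¹) := by rw [hct]
          _ = e * (g * t * g⁻¹) * e⁻¹ * (e * g * c⁻¹) := by group
          _ = s * (e * g * c⁻¹) := by rw [het]
      rw [show g = e⁻¹ * (e * g * c⁻¹) * c by group]
      exact mul_mem (mul_mem (inv_mem he) hm) hc
  obtain ⟨u, huC, hu⟩ := StronglyEmbedded.exists_involution_notMem hse
  refine no_odd_transitive_of_good hG hACC hnc' hnn'
    ((C ⊓ C.map (MulAut.conj u).toMonoidHom).subgroupOf C) ?_ fun a b ha hb => ?_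
  · rw [Nat.card_congr (Subgroup.subgroupOfEquivOfLe inf_le_left).toEquiv]
    exact hse.2.2 u huC
  · obtain ⟨d, hd, hdb⟩ := StronglyEmbedded.exists_conj_in_inter hse hu huC
      (s := (a : G)) (by rw [Subgroup.orderOf_coe, ha]) a.2
      (t := (b : G)) (by rw [Subgroup.orderOf_coe, hb]) b.2
    exact ⟨⟨d, hd.1⟩, hd, Subtype.ext hdb⟩

/-- The case of trivial odd core. -/
theorem core_case {n : ℕ}
    (ih : ∀ (H : Type u) [Group H] [Finite H], Nat.card H < n → AC H → ∀ T : Sylow 2 H,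
      ¬ IsCyclic (T : Subgroup H) → ¬ (T : Subgroup H).Normal → Good T)
    (hn : Nat.card G ≤ n) (hAC : AC G) (S : Sylow 2 G) (hnc : ¬ IsCyclic (S : Subgroup G))
    (hnn : ¬ (S : Subgroup G).Normal) (hO : Cfsg.oddCore G = ⊥) :
    ∃ (K : Type) (_ : Field K) (_ : Fintype K), CharP K 2 ∧ IsSimpleGroup G ∧ IsPGroup 2 (cen S) ∧
      Nonempty (G ≃* Matrix.SpecialLinearGroup (Fin 2) K) := by
  have ihC : ∀ C : Subgroup G, C ≠ ⊤ → ∀ hSC : (S : Subgroup G) ≤ C, ¬ C ≤ nor S →
      Good (S.subtype hSC) := fun C hC hSC hle =>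
    ih C (lt_of_lt_of_le (lt_of_le_of_ne C.card_le_card_group
      fun e => hC (Subgroup.eq_top_of_card_eq C e)) hn) (hAC.subgroup C) _
      (fun h => hnc ((Subgroup.subgroupOfEquivOfLe hSC).isCyclic.1 h))
      (fun h => hle ((Subgroup.normal_subgroupOf_iff_le_normalizer hSC).1 h))
  have hH : Hyp S := by
    refine ⟨cen_comm hAC S hnc, sylow_le_cen hAC S hnc, fun s hs h2 => cent_eq hAC S hnc hs h2,
      two_involutions hAC S hnc, hnn, fun a ha ha1 => ?_⟩
    rcases Nat.even_or_odd (orderOf a) with he | ho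
    · obtain ⟨m, hm⟩ := even_iff_two_dvd.1 he
      have hm0 : m ≠ 0 := by
        intro h; rw [h, mul_zero] at hm; exact (orderOf_pos a).ne' hm
      have hw : orderOf (a ^ m) = 2 := by
        rw [orderOf_pow_of_dvd hm0 (hm ▸ Dvd.intro_left 2 rfl), hm,
          Nat.mul_div_cancel _ (Nat.pos_of_ne_zero hm0)]
      have hwS : a ^ m ∈ (S : Subgroup G) := invol_mem (cen_le_nor (pow_mem ha m)) hw
      refine le_trans ?_ ((cent_eq hAC S hnc hwS hw).le.trans cen_le_nor)
      intro g hg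
      rw [Subgroup.mem_centralizer_singleton_iff] at hg ⊢
      exact Commute.pow_right hg m
    · exact no_component hAC S hnc hO ihC ha ha1 ho
  exact hH.iso fun M hM hMo => le_bot_iff.1 (hO ▸ (haveI := hM; Cores.le_oddCore hMo))

/-- Lifting the core case over the odd core. -/
theorem good_of_core {n : ℕ}
    (ih : ∀ (H : Type u) [Group H] [Finite H], Nat.card H < n → AC H → ∀ T : Sylow 2 H,
      ¬ IsCyclic (T : Subgroup H) → ¬ (T : Subgroup H).Normal → Good T)
    (hn : Nat.card G ≤ n) (hAC : AC G) (S : Sylow 2 G) (hnc : ¬ IsCyclic (S : Subgroup G))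
    (hnn : ¬ (S : Subgroup G).Normal) : Good S := by
  haveI : Fact (Nat.Prime 2) := ⟨Nat.prime_two⟩
  haveI := Cores.pPrimeCore_normal (G := G) 2
  set O := Cfsg.oddCore G with hOdef
  have hOodd : Odd (Nat.card O) := Cores.oddCore_odd
  set π := QuotientGroup.mk' O with hπdef
  have hπ : Function.Surjective π := QuotientGroup.mk'_surjective O
  have hker : π.ker = O := QuotientGroup.ker_mk' O
  set T := S.mapSurjective hπ with hTdef
  have hOS := oddCore_le_cen hAC S hnc
  have hTmem : ∀ s ∈ (S : Subgroup G), π s ∈ (T : Subgroup (G ⧸ O)) := fun s hs => by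
    rw [hTdef, Sylow.coe_mapSurjective]; exact Subgroup.mem_map_of_mem _ hs
  -- the centralizer of an involution centralizes the odd core
  have hOt : ∀ t : G, orderOf t = 2 → ∀ o ∈ O, t * o = o * t := by
    intro t ht o ho
    obtain ⟨P, hP⟩ := (IsPGroup.of_card (p := 2) (n := 1) (G := Subgroup.zpowers t)
      (by rw [Nat.card_zpowers, ht, pow_one])).exists_le_sylow
    have hPnc : ¬ IsCyclic (P : Subgroup G) := fun h => hnc ((P.equiv S).isCyclic.1 h)
    exact Subgroup.mem_centralizer_iff.1 (oddCore_le_cen hAC P hPnc ho) t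
      (hP (Subgroup.mem_zpowers t))
  have hAC' : AC (G ⧸ O) := by
    intro t' ht' a' ha' b' hb'
    obtain ⟨r, rfl⟩ := hπ t'
    obtain ⟨k, m, hmo, hkm⟩ := Nat.exists_eq_two_pow_mul_odd (n := orderOf r) (orderOf_pos r).ne'
    have hrm : π (r ^ m) = π r := by
      rw [map_pow]
      obtain ⟨i, rfl⟩ := hmo
      rw [pow_succ, pow_mul, sq, inv_sq_one ht', one_pow, one_mul]
    have ht : orderOf (r ^ m) = 2 := two_elt_inv hOodd π hker (k := k)
      (by rw [← pow_mul, mul_comm, ← hkm, pow_orderOf_eq_one]) (by rw [hrm, ht'])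
    set t := r ^ m with htdef
    have hlift : ∀ a : G, π a * π r = π r * π a → a ∈ Subgroup.centralizer ({t} : Set G) := by
      intro a ha
      rw [← hrm] at ha
      have hm' : t⁻¹ * (a⁻¹ * t * a) ∈ O := by
        rw [← hker, MonoidHom.mem_ker, map_mul, map_mul, map_mul, map_inv, map_inv, mul_assoc
          (π a)⁻¹, ← ha, inv_mul_cancel_left, inv_mul_cancel]
      set o := t⁻¹ * (a⁻¹ * t * a) with hodef
      have hat : a⁻¹ * t * a = t * o := by rw [hodef, mul_inv_cancel_left]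
      have hoo : o * o = 1 := by
        have h1 : (a⁻¹ * t * a) * (a⁻¹ * t * a) = 1 := by
          rw [show a⁻¹ * t * a * (a⁻¹ * t * a) = a⁻¹ * (t * t) * a by group, inv_sq_one ht]; group
        rw [hat, show t * o * (t * o) = t * (o * t) * o by group, ← hOt t ht o hm',
          show t * (t * o) * o = (t * t) * (o * o) by group, inv_sq_one ht, one_mul] at h1
        exact h1
      have ho1 : o = 1 := two_mem_cases (k := 1) (by rw [pow_one, sq, hoo])
        (odd_orderOf_of_mem hOodd hm')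
      rw [ho1, mul_one] at hat
      exact Subgroup.mem_centralizer_singleton_iff.2 (by
        rw [show a * t = a * (a⁻¹ * t * a) by rw [hat]]; group)
    obtain ⟨a, rfl⟩ := hπ a'
    obtain ⟨b, rfl⟩ := hπ b'
    rw [← map_mul, hAC t ht a (hlift a (Subgroup.mem_centralizer_singleton_iff.1 ha')) b
      (hlift b (Subgroup.mem_centralizer_singleton_iff.1 hb')), map_mul]
  have hinjS : ∀ s ∈ (S : Subgroup G), s ∈ O → s = 1 := fun s hs hsO => by
    obtain ⟨k, hk⟩ := two_sylow_pow hs
    exact two_mem_cases hk (odd_orderOf_of_mem hOodd hsO)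
  have hnc' : ¬ IsCyclic (T : Subgroup (G ⧸ O)) := by
    intro h
    have f : Function.Injective (π.comp (S : Subgroup G).subtype) := by
      rw [injective_iff_map_eq_one]
      exact fun x hx => Subtype.ext (hinjS x x.2 (hker ▸ MonoidHom.mem_ker.2 hx))
    have e := MonoidHom.ofInjective f
    rw [MonoidHom.range_comp, Subgroup.range_subtype, ← Sylow.coe_mapSurjective hπ S] at e
    exact hnc (e.isCyclic.2 h)
  have hnn' : ¬ (T : Subgroup (G ⧸ O)).Normal := by
    intro hN
    refine hnn ⟨fun s hs g => ?_⟩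
    have hm := hN.conj_mem _ (hTmem s hs) (π g)
    rw [← map_inv, ← map_mul, ← map_mul, hTdef, Sylow.coe_mapSurjective] at hm
    obtain ⟨s', hs', he⟩ := hm
    have ho : s'⁻¹ * (g * s * g⁻¹) ∈ O := by
      rw [← hker, MonoidHom.mem_ker, map_mul, map_inv, he, inv_mul_cancel]
    obtain ⟨k, hk⟩ := two_sylow_pow hs
    obtain ⟨j, hj⟩ := two_sylow_pow hs'
    have hc : Commute s' (s'⁻¹ * (g * s * g⁻¹)) := Subgroup.mem_centralizer_iff.1 (hOS ho) s' hs'
    have h1 : (g * s * g⁻¹) ^ 2 ^ (k + j) = 1 := by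
      rw [conj_pow, pow_add, pow_mul, hk, one_pow]; group
    have h2 : s' ^ 2 ^ (k + j) = 1 := by
      rw [pow_add, mul_comm, pow_mul, hj, one_pow]
    rw [show g * s * g⁻¹ = s' * (s'⁻¹ * (g * s * g⁻¹)) by group, hc.mul_pow, h2, one_mul] at h1
    have := two_mem_cases h1 (odd_orderOf_of_mem hOodd ho)
    rw [inv_mul_eq_one] at this
    exact this ▸ hs'
  obtain ⟨K, iK, iF, hK, hsimp, hcen, ⟨e⟩⟩ := core_case ih
    (le_trans (Nat.le_of_dvd Nat.card_pos (Subgroup.card_quotient_dvd_card O)) hn) hAC' T hnc' hnn'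
    (Cores.pPrimeCore_quotient_self 2)
  -- the odd core is central
  have hTne : ∃ s ∈ (S : Subgroup G), π s ≠ 1 := by
    obtain ⟨s, -, hs, -, h2, -⟩ := two_involutions hAC S hnc
    refine ⟨s, hs, fun h => Involutions.Basic.ne_one h2 (hinjS s hs ?_)⟩
    rw [← hker]; exact h
  have hcentral : O ≤ Subgroup.center G := by
    intro o ho
    rw [Subgroup.mem_center_iff]
    intro g
    have hmap : (Subgroup.centralizer (O : Set G)).map π = ⊤ := by
      haveI : (Subgroup.centralizer (O : Set G)).Normal := inferInstance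
      refine (hsimp.eq_bot_or_eq_top_of_normal _ (Subgroup.Normal.map inferInstance π hπ)).resolve_left
        fun hb => ?_
      obtain ⟨s, hs, hs1⟩ := hTne
      refine hs1 ?_
      have : π s ∈ (Subgroup.centralizer (O : Set G)).map π := Subgroup.mem_map_of_mem _
        (Subgroup.mem_centralizer_iff.2 fun y hy =>
          (Subgroup.mem_centralizer_iff.1 (hOS hy) s hs).symm)
      rwa [hb, Subgroup.mem_bot] at this
    obtain ⟨c, hc, hcg⟩ := (hmap ▸ Subgroup.mem_top (π g) :
      π g ∈ (Subgroup.centralizer (O : Set G)).map π)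
    have hco : c⁻¹ * g ∈ O := by
      rw [← hker, MonoidHom.mem_ker, map_mul, map_inv, hcg, inv_mul_cancel]
    have h1 : c * o = o * c := (Subgroup.mem_centralizer_iff.1 hc o ho).symm
    have h2 : (c⁻¹ * g) * o = o * (c⁻¹ * g) := cen_comm hAC S hnc _ (hOS hco) _ (hOS ho)
    calc g * o = c * ((c⁻¹ * g) * o) := by group
      _ = (c * o) * (c⁻¹ * g) := by rw [h2, ← mul_assoc]
      _ = o * g := by rw [h1]; group
  set L := commutator G with hLdef
  have hLmap : L.map π = ⊤ := by
    rw [hLdef, commutator_def, Subgroup.map_commutator,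
      Subgroup.map_top_of_surjective π hπ, ← commutator_def]
    refine (hsimp.eq_bot_or_eq_top_of_normal _ inferInstance).resolve_left fun hb => hnn' ?_
    refine ⟨fun x hx g => ?_⟩
    have hgx : g * x * g⁻¹ * x⁻¹ ∈ commutator (G ⧸ O) :=
      Subgroup.commutator_mem_commutator (Subgroup.mem_top g) (Subgroup.mem_top x)
    rw [hb, Subgroup.mem_bot, mul_inv_eq_one] at hgx
    rw [hgx]; exact hx
  have hinf : L ⊓ O = ⊥ := by
    by_contra hne
    obtain ⟨r, hr, hrd⟩ := Nat.exists_prime_and_dvd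
      (n := Nat.card (L ⊓ O : Subgroup G)) (fun h => hne (Subgroup.card_eq_one.1 h))
    haveI := Fact.mk hr
    obtain ⟨⟨z, hzL, hzO⟩, hz⟩ := exists_prime_orderOf_dvd_card' (G := (L ⊓ O : Subgroup G)) r hrd
    rw [← Subgroup.orderOf_coe] at hz
    change orderOf z = r at hz
    have hr2 : r ≠ 2 := by
      intro h
      have := odd_orderOf_of_mem hOodd hzO
      rw [hz, h] at this
      exact absurd this (by decide)
    obtain ⟨P, hP⟩ := (IsPGroup.of_card (p := r) (n := 1) (G := Subgroup.zpowers z)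
      (by rw [Nat.card_zpowers, hz, pow_one])).exists_le_sylow
    let ψ : G →* Matrix.SpecialLinearGroup (Fin 2) K := e.toMonoidHom.comp π
    have hψ : Function.Surjective ψ := e.surjective.comp hπ
    haveI := hK
    set Q : Sylow r (Matrix.SpecialLinearGroup (Fin 2) K) := P.mapSurjective hψ with hQ
    haveI hcyc : IsCyclic (Q : Subgroup (Matrix.SpecialLinearGroup (Fin 2) K)) :=
      Classical.SylowSL2.isCyclic_sylow 2 r hr2 hr2 Q
    let φ : (P : Subgroup G) →* (Q : Subgroup (Matrix.SpecialLinearGroup (Fin 2) K)) :=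
      (ψ.comp (P : Subgroup G).subtype).codRestrict _ fun x => by
        rw [hQ, Sylow.coe_mapSurjective]; exact Subgroup.mem_map_of_mem _ x.2
    have hφ : φ.ker ≤ Subgroup.center (P : Subgroup G) := by
      intro x hx
      have h1 : e (π (x : G)) = 1 := congrArg Subtype.val (MonoidHom.mem_ker.1 hx)
      rw [map_eq_one_iff e e.injective] at h1
      have h2 : (x : G) ∈ Subgroup.center G := hcentral (hker ▸ MonoidHom.mem_ker.2 h1)
      exact Subgroup.mem_center_iff.2 fun y => Subtype.ext (Subgroup.mem_center_iff.1 h2 y)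
    haveI := MonoidHom.isMulCommutative_of_isCyclic_of_ker_le_center φ hφ
    have h1 := Transfer.CenterInf.inf_commutator_inf_center (P : Subgroup G) P.card_coprime_index
    have hm : z ∈ (P : Subgroup G) ⊓ commutator G ⊓ Subgroup.center G :=
      ⟨⟨hP (Subgroup.mem_zpowers z), hzL⟩, hcentral hzO⟩
    rw [h1, Subgroup.mem_bot] at hm
    rw [hm, orderOf_one] at hz
    exact hr.one_lt.ne' hz.symm
  have hbij : Function.Bijective (π.comp L.subtype) := by
    refine ⟨(injective_iff_map_eq_one _).2 fun x hx => ?_, fun y => ?_⟩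
    · have : (x : G) ∈ L ⊓ O := ⟨x.2, hker ▸ MonoidHom.mem_ker.2 hx⟩
      rw [hinf, Subgroup.mem_bot] at this
      exact Subtype.ext this
    · obtain ⟨l, hl, hly⟩ := (hLmap ▸ Subgroup.mem_top y : y ∈ L.map π)
      exact ⟨⟨l, hl⟩, hly⟩
  refine ⟨hcentral, fun x hx => ?_, L, inferInstance, hinf, ?_, K, iK, iF, hK,
    ⟨(MulEquiv.ofBijective _ hbij).trans e⟩⟩
  · have hxT : π x ∈ cen T := by
      rw [Subgroup.mem_centralizer_iff]
      intro y hy
      rw [hTdef] at hy
      obtain ⟨s, hs, rfl⟩ := (Sylow.coe_mapSurjective hπ S ▸ hy : y ∈ (S : Subgroup G).map π)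
      rw [← map_mul, Subgroup.mem_centralizer_iff.1 hx s hs, map_mul]
    obtain ⟨k, hk⟩ := hcen ⟨_, hxT⟩
    refine ⟨k, ?_⟩
    change x ^ 2 ^ k ∈ O
    rw [← hker, MonoidHom.mem_ker, map_pow]
    exact congrArg Subtype.val hk
  · rw [eq_top_iff]
    intro g _
    obtain ⟨l, hl, hlg⟩ := (hLmap ▸ Subgroup.mem_top (π g) : π g ∈ L.map π)
    have hm : l⁻¹ * g ∈ O := by
      rw [← hker, MonoidHom.mem_ker, map_mul, map_inv, hlg, inv_mul_cancel]
    rw [show g = l * (l⁻¹ * g) by group]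
    exact mul_mem (Subgroup.mem_sup_left hl) (Subgroup.mem_sup_right hm)

/-- Groups with abelian involution centralizers. -/
theorem good (G : Type u) [Group G] [Finite G] (hAC : AC G) (S : Sylow 2 G)
    (hnc : ¬ IsCyclic (S : Subgroup G)) (hnn : ¬ (S : Subgroup G).Normal) : Good S := by
  induction hm : Nat.card G using Nat.strong_induction_on generalizing G with
  | _ n ih =>
    exact good_of_core (n := n) (fun H _ _ hH hACH T h1 h2 => ih _ hH H hACH T h1 h2 rfl) hm.le hAC S
      hnc hnn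

/-- The trichotomy. -/
theorem trichotomy (hAC : AC G) (S : Sylow 2 G) (hnc : ¬ IsCyclic (S : Subgroup G))
    (hnn : ¬ (S : Subgroup G).Normal) :
    ∃ (K : Type) (_ : Field K) (_ : Fintype K) (A : Type) (_ : CommGroup A) (_ : Finite A),
      CharP K 2 ∧ Odd (Nat.card A) ∧ Nonempty (G ≃* Matrix.SpecialLinearGroup (Fin 2) K × A) := by
  obtain ⟨hcen, -, L, hn, hinf, hsup, K, iK, iF, hK, ⟨e⟩⟩ := good G hAC S hnc hnn
  set O := Cfsg.oddCore G with hO
  letI iO : CommGroup O := { (inferInstance : Group O) with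
    mul_comm := fun a b => Subtype.ext (Subgroup.mem_center_iff.1 (hcen b.2) a) }
  have e0 : Shrink.{0} O ≃* O := Shrink.mulEquiv
  let f : L × O →* G :=
    { toFun := fun p => (p.1 : G) * p.2
      map_one' := by simp
      map_mul' := fun p q => by
        show (p.1 : G) * q.1 * ((p.2 : G) * q.2) = (p.1 : G) * p.2 * ((q.1 : G) * q.2)
        rw [mul_assoc, mul_assoc, ← mul_assoc (q.1 : G),
          Subgroup.mem_center_iff.1 (hcen p.2.2) (q.1 : G), mul_assoc] }
  have hf : Function.Bijective f := by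
    refine ⟨(injective_iff_map_eq_one f).2 ?_, fun g => ?_⟩
    · rintro ⟨l, z⟩ h
      change (l : G) * (z : G) = 1 at h
      have : (l : G) ∈ L ⊓ O := ⟨l.2, (eq_inv_of_mul_eq_one_left h) ▸ O.inv_mem z.2⟩
      rw [hinf, Subgroup.mem_bot] at this
      rw [this, one_mul] at h
      exact Prod.ext (Subtype.ext this) (Subtype.ext h)
    · haveI := Cores.pPrimeCore_normal (G := G) 2
      obtain ⟨l, hl, z, hz, rfl⟩ := Subgroup.mem_sup_of_normal_right.1
        (hsup ▸ Subgroup.mem_top g : g ∈ L ⊔ O)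
      exact ⟨(⟨l, hl⟩, ⟨z, hz⟩), rfl⟩
  refine ⟨K, iK, iF, Shrink.{0} O, inferInstance, Finite.of_equiv _ e0.symm.toEquiv, hK, ?_,
    ⟨(MulEquiv.ofBijective f hf).symm.trans (e.prodCongr e0.symm)⟩⟩
  rw [Nat.card_congr e0.toEquiv]
  exact Cores.oddCore_odd

end Cfsg.Agent.Involutions.AbelianCentralizer
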